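import Cfsg.Agent.SmallSimple.SylowMaxInter

/-!
# Maximal Sylow intersections of point stabilisers (abstract part of #15976 (A), helper897; project OMEGA, leaf N1)

`G` acts on `α`, `Φ ⊆ α` is `G`-invariant, every Sylow 2-subgroup of `G` fixes at most one point of `Φ`, every
stabiliser `G_a` (`a ∈ Φ`) contains a Sylow 2-subgroup.  `r` is a `G`-invariant relation on `Φ` such that
`r a b`, `R ∈ Syl₂(G_a ∩ G_b)` imply `r a c` for all `a ≠ c ∈ C_Φ(R)`.

If `r a b` and `R ∈ Syl₂(G_a ∩ G_b)` has maximal order (over all pairs with `r`), then `C_Φ(R)` is one orbit of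
`N_G(R)`, `r c c'` for all `c ≠ c'` in `C_Φ(R)`, every 2-subgroup of `N_G(R)` properly containing `R` fixes exactly
one point of `C_Φ(R)`.
-/

set_option autoImplicit false

namespace Cfsg.Agent.Omega.NO1.BTTwo

open Subgroup MulAction

/-- The setting. -/
structure Rel (G : Type*) {α : Type*} [Group G] [MulAction G α] (Φ : Set α) (r : α → α → Prop) : Prop where
  inv : ∀ (g : G) (a : α), a ∈ Φ → g • a ∈ Φ
  rinv : ∀ (g : G) (a b : α), r a b → r (g • a) (g • b)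
  left : ∀ a b : α, r a b → a ∈ Φ
  right : ∀ a b : α, r a b → b ∈ Φ
  ne : ∀ a b : α, r a b → a ≠ b
  syl : ∀ S : Sylow 2 G, ∀ a ∈ Φ, ∀ b ∈ Φ, (S : Subgroup G) ≤ stabilizer G a → (S : Subgroup G) ≤ stabilizer G b →
    a = b
  stab : ∀ a ∈ Φ, ∃ S : Sylow 2 G, (S : Subgroup G) ≤ stabilizer G a
  ext : ∀ a b : α, r a b → ∀ R : Subgroup G, IsPGroup 2 R → R ≤ stabilizer G a → R ≤ stabilizer G b →
    (∀ R' : Subgroup G, IsPGroup 2 R' → R ≤ R' → R' ≤ stabilizer G a → R' ≤ stabilizer G b → R' ≤ R) →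
    ∀ c ∈ Φ, c ≠ a → R ≤ stabilizer G c → r a c

/-- `r a b` and `R ∈ Syl₂(G_a ∩ G_b)` has maximal order. -/
structure Mx (G : Type*) {α : Type*} [Group G] [MulAction G α] (r : α → α → Prop) (R : Subgroup G) (a b : α) :
    Prop where
  two : IsPGroup 2 R
  rab : r a b
  la : R ≤ stabilizer G a
  lb : R ≤ stabilizer G b
  max : ∀ (a' b' : α) (R' : Subgroup G), r a' b' → IsPGroup 2 R' → R' ≤ stabilizer G a' → R' ≤ stabilizer G b' →
    Nat.card R' ≤ Nat.card R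

variable {G α : Type*} [Group G] [MulAction G α] {Φ : Set α} {r : α → α → Prop}

/-- A 2-subgroup of `K` lies in a `K`-conjugate of the Sylow subgroup `S ≤ K`. -/
theorem exists_sylow_ge [Finite G] {K R : Subgroup G} (S : Sylow 2 G) (hS : (S : Subgroup G) ≤ K) (hR : IsPGroup 2 R)
    (hRK : R ≤ K) : ∃ T : Sylow 2 G, R ≤ T ∧ (T : Subgroup G) ≤ K := by
  have : Fact (Nat.Prime 2) := ⟨Nat.prime_two⟩
  obtain ⟨R'', hR''⟩ := (hR.comap_subtype (H := R) (K := K) : IsPGroup 2 (R.subgroupOf K)).exists_le_sylow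
  obtain ⟨k, hk⟩ := MulAction.exists_smul_eq K (S.subtype hS) R''
  refine ⟨(k : G) • S, ?_, ?_⟩
  · intro x hx
    have h1 : (⟨x, hRK hx⟩ : K) ∈ (R'' : Subgroup K) := hR'' hx
    rw [← hk] at h1
    obtain ⟨s, hs, e⟩ := h1
    have e' : (k : G) * s * (k : G)⁻¹ = x := congrArg Subtype.val e
    rw [← e', Sylow.coe_subgroup_smul]
    exact ⟨s, hs, rfl⟩
  · intro x hx
    rw [Sylow.coe_subgroup_smul] at hx
    obtain ⟨s, hs, rfl⟩ := hx
    exact K.mul_mem (K.mul_mem k.2 (hS hs)) (K.inv_mem k.2)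

theorem exists_mx [Finite G] {a b : α} (h : r a b) : ∃ (R : Subgroup G) (a' b' : α), Mx G r R a' b' := by
  classical
  let s : Set ℕ := {n | ∃ (R : Subgroup G) (a' b' : α), r a' b' ∧ IsPGroup 2 R ∧ R ≤ stabilizer G a' ∧
    R ≤ stabilizer G b' ∧ Nat.card R = n}
  have h1 : s.Nonempty := ⟨_, ⊥, a, b, h, IsPGroup.of_bot, bot_le, bot_le, rfl⟩
  have h2 : BddAbove s := ⟨Nat.card G, by
    rintro n ⟨R, a', b', -, -, -, -, rfl⟩
    exact Nat.card_le_card_of_injective _ R.subtype_injective⟩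
  obtain ⟨R, a', b', h3, h4, h5, h6, h7⟩ := Nat.sSup_mem h1 h2
  refine ⟨R, a', b', h4, h3, h5, h6, fun a₁ b₁ R₁ e1 e2 e3 e4 => ?_⟩
  rw [h7]
  exact le_csSup h2 ⟨R₁, a₁, b₁, e1, e2, e3, e4, rfl⟩

namespace Mx

variable {R : Subgroup G} {a b : α}

theorem le_of [Finite G] (m : Mx G r R a b) {a' b' : α} (h : r a' b') {R' : Subgroup G} (h2 : IsPGroup 2 R')
    (hle : R ≤ R') (ha : R' ≤ stabilizer G a') (hb : R' ≤ stabilizer G b') : R' ≤ R :=
  (eq_of_le_of_card_ge hle (m.max a' b' R' h h2 ha hb)).ge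

/-- `r a c` for all `a ≠ c ∈ C_Φ(R)` -/
theorem rel_left [Finite G] (h : Rel G Φ r) (m : Mx G r R a b) {c : α} (hc : c ∈ Φ) (hca : c ≠ a)
    (hR : R ≤ stabilizer G c) : r a c :=
  h.ext a b m.rab R m.two m.la m.lb (fun _ h1 h2 h3 h4 => m.le_of m.rab h1 h2 h3 h4) c hc hca hR

theorem stab_smul {n : G} (hn : n ∈ normalizer (R : Set G)) {c : α} (hc : R ≤ stabilizer G c) :
    R ≤ stabilizer G (n • c) := by
  intro x hx
  have h1 : n⁻¹ * x * n ∈ R := by
    have := (mem_normalizer_iff''.1 hn x).1 hx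
    exact this
  have h2 : (n⁻¹ * x * n) • c = c := hc h1
  rw [mem_stabilizer_iff]
  have h3 : x • n • c = n • (n⁻¹ * x * n) • c := by
    simp only [smul_smul]
    congr 1
    group
  rw [h3, h2]

theorem smul (h : Rel G Φ r) (m : Mx G r R a b) {n : G} (hn : n ∈ normalizer (R : Set G)) :
    Mx G r R (n • a) (n • b) where
  two := m.two
  rab := h.rinv n a b m.rab
  la := stab_smul hn m.la
  lb := stab_smul hn m.lb
  max := m.max

/-- the point `a` is determined by any 2-subgroup `R' > R` of `G_a` -/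
theorem eq_left [Finite G] (h : Rel G Φ r) (m : Mx G r R a b) {c : α} (hc : c ∈ Φ) {R' : Subgroup G}
    (h2 : IsPGroup 2 R') (hlt : R < R') (ha : R' ≤ stabilizer G a) (hb : R' ≤ stabilizer G c) : c = a := by
  by_contra hca
  exact hlt.not_ge (m.le_of (m.rel_left h hc hca (hlt.le.trans hb)) h2 hlt.le ha hb)

/-- `R < N_{T_c}(R)` -/
theorem exists_gt [Finite G] (h : Rel G Φ r) (m : Mx G r R a b) {c : α} (hc : c ∈ Φ) (hR : R ≤ stabilizer G c) :
    ∃ R' : Subgroup G, IsPGroup 2 R' ∧ R < R' ∧ R' ≤ normalizer (R : Set G) ∧ R' ≤ stabilizer G c ∧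
      ∃ T : Sylow 2 G, R' ≤ T ∧ (T : Subgroup G) ≤ stabilizer G c := by
  have : Fact (Nat.Prime 2) := ⟨Nat.prime_two⟩
  obtain ⟨S, hS⟩ := h.stab c hc
  obtain ⟨T, hRT, hT⟩ := exists_sylow_ge S hS m.two hR
  have hne : R ≠ T := by
    rintro e
    have h1 := h.syl T a (h.left _ _ m.rab) c hc (e ▸ m.la) hT
    have h2 := h.syl T b (h.right _ _ m.rab) c hc (e ▸ m.lb) hT
    exact h.ne _ _ m.rab (h1.trans h2.symm)
  have hlt : R < T := lt_of_le_of_ne hRT hne
  have h3 := Cfsg.Agent.SmallSimple.SylowMaxInter.lt_inf_normalizer T.isPGroup' hlt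
  exact ⟨_, T.isPGroup'.to_le inf_le_left, h3, inf_le_right, inf_le_left.trans hT, T, inf_le_left, hT⟩

/-- a 2-subgroup of `N_G(R)` fixes a conjugate of `a` -/
theorem exists_fix [Finite G] (h : Rel G Φ r) (m : Mx G r R a b) {R₁ : Subgroup G} (h2 : IsPGroup 2 R₁)
    (hN : R₁ ≤ normalizer (R : Set G)) : ∃ n ∈ normalizer (R : Set G), R₁ ≤ stabilizer G (n • a) := by
  classical
  have : Fact (Nat.Prime 2) := ⟨Nat.prime_two⟩
  obtain ⟨R', h3, h4, h5, h6, -⟩ := m.exists_gt h (h.left _ _ m.rab) m.la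
  let N : Subgroup G := normalizer (R : Set G)
  let O : Set α := orbit N a
  have hfin : Finite O := by
    have : O = Set.range fun n : N => n • a := rfl
    rw [this]
    exact Set.finite_range _
  have hmem : ∀ x : O, ∃ n ∈ N, (x : α) = n • a := by
    rintro ⟨x, n, hn⟩
    exact ⟨n, n.2, hn.symm⟩
  -- the only fixed point of `R'`
  have hone : Nat.card (fixedPoints (R'.subgroupOf N) O) = 1 := by
    rw [Nat.card_eq_one_iff_unique]
    constructor
    · refine ⟨fun x y => ?_⟩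
      have key : ∀ w : fixedPoints (R'.subgroupOf N) O, ((w : O) : α) = a := by
        intro w
        obtain ⟨n, hn, e⟩ := hmem w
        refine m.eq_left h ?_ h3 h4 h6 ?_
        · rw [e]
          exact h.inv _ _ (h.left _ _ m.rab)
        · intro g hg
          have h7 := w.2 ⟨⟨g, h5 hg⟩, hg⟩
          have h8 := congrArg (Subtype.val : O → α) h7
          exact h8
      exact Subtype.ext (Subtype.ext ((key x).trans (key y).symm))
    · refine ⟨⟨⟨a, mem_orbit_self a⟩, ?_⟩⟩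
      rintro ⟨g, hg⟩
      exact Subtype.ext (h6 hg)
  have h7 : Nat.card O ≡ Nat.card (fixedPoints (R'.subgroupOf N) O) [MOD 2] :=
    (h3.comap_subtype (K := N) : IsPGroup 2 (R'.subgroupOf N)).card_modEq_card_fixedPoints O
  rw [hone] at h7
  have h8 : ¬ 2 ∣ Nat.card O := by
    intro h9
    have h10 : Nat.card O % 2 = 1 % 2 := h7
    omega
  obtain ⟨w, hw⟩ := (h2.comap_subtype (K := N) : IsPGroup 2 (R₁.subgroupOf N)).nonempty_fixed_point_of_prime_not_dvd_card O h8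
  obtain ⟨n, hn, e⟩ := hmem w
  refine ⟨n, hn, fun g hg => ?_⟩
  rw [← e]
  have h9 := hw ⟨⟨g, hN hg⟩, hg⟩
  exact congrArg (Subtype.val : O → α) h9

/-- **`C_Φ(R)` is one orbit of `N_G(R)`** -/
theorem exists_smul_eq [Finite G] (h : Rel G Φ r) (m : Mx G r R a b) {c : α} (hc : c ∈ Φ)
    (hR : R ≤ stabilizer G c) : ∃ n ∈ normalizer (R : Set G), n • a = c := by
  obtain ⟨R', h3, h4, h5, h6, -⟩ := m.exists_gt h hc hR
  obtain ⟨n, hn, h7⟩ := m.exists_fix h h3 h5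
  exact ⟨n, hn, ((m.smul h hn).eq_left h hc h3 h4 h7 h6).symm⟩

/-- **`r c c'` for all `c ≠ c'` in `C_Φ(R)`** -/
theorem rel [Finite G] (h : Rel G Φ r) (m : Mx G r R a b) {c c' : α} (hc : c ∈ Φ) (hR : R ≤ stabilizer G c)
    (hc' : c' ∈ Φ) (hR' : R ≤ stabilizer G c') (hne : c ≠ c') : r c c' := by
  obtain ⟨n, hn, rfl⟩ := m.exists_smul_eq h hc hR
  exact (m.smul h hn).rel_left h hc' hne.symm hR'

/-- every pair of points of `C_Φ(R)` is maximal with `R` -/
theorem mx [Finite G] (h : Rel G Φ r) (m : Mx G r R a b) {c c' : α} (hc : c ∈ Φ) (hR : R ≤ stabilizer G c)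
    (hc' : c' ∈ Φ) (hR' : R ≤ stabilizer G c') (hne : c ≠ c') : Mx G r R c c' :=
  ⟨m.two, m.rel h hc hR hc' hR' hne, hR, hR', m.max⟩

/-- `R ∈ Syl₂(G_c ∩ G_c')` for `c ≠ c'` in `C_Φ(R)`. -/
theorem le_of_le [Finite G] (h : Rel G Φ r) (m : Mx G r R a b) {c c' : α} (hc : c ∈ Φ) (hc' : c' ∈ Φ)
    (hne : c ≠ c') {R' : Subgroup G} (h2 : IsPGroup 2 R') (hle : R ≤ R') (h3 : R' ≤ stabilizer G c)
    (h4 : R' ≤ stabilizer G c') : R' ≤ R :=
  m.le_of (m.rel h hc (hle.trans h3) hc' (hle.trans h4) hne) h2 hle h3 h4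

/-- **every 2-subgroup `R₁ > R` of `N_G(R)` fixes exactly one point of `C_Φ(R)`** -/
theorem existsUnique [Finite G] (h : Rel G Φ r) (m : Mx G r R a b) {R₁ : Subgroup G} (h2 : IsPGroup 2 R₁)
    (hlt : R < R₁) (hN : R₁ ≤ normalizer (R : Set G)) : ∃! c : α, c ∈ Φ ∧ R₁ ≤ stabilizer G c := by
  obtain ⟨n, hn, h3⟩ := m.exists_fix h h2 hN
  refine ⟨n • a, ⟨h.inv _ _ (h.left _ _ m.rab), h3⟩, ?_⟩
  rintro c ⟨hc, hcR⟩
  exact (m.smul h hn).eq_left h hc h2 hlt h3 hcR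

/-- `N_G(R)` is not contained in a stabiliser of a point of `C_Φ(R)` -/
theorem exists_move [Finite G] (h : Rel G Φ r) (m : Mx G r R a b) : ∃ n ∈ normalizer (R : Set G), n • a = b :=
  m.exists_smul_eq h (h.right _ _ m.rab) m.lb

end Mx

end Cfsg.Agent.Omega.NO1.BTTwo
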