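import Cfsg.Agent.Omega.NearFF.Three
import Cfsg.Agent.Omega.NO1.BTTwo.MaxAbs

/-!
# #15976 (A) (helper897): pairs with maximal Sylow intersection are symmetric (project OMEGA, leaf N1, (BT), `|V/E| = 2`)

`Loc Ω f Q BB`: the local part of `Dat`, valid for `Y` on `Ω = z^Y` (`Dat.loc`) and for a subgroup `L = ⟨B, C⟩` on
`z'^L`.  `φ → ψ` (`To`): `φ = f x ≠ f y = ψ` and `φ y = 0` for some `x, y ∈ Ω`.  `Mxs f Ω R φ ψ`: `φ → ψ` and
`R ∈ Syl₂(N_φ ∩ N_ψ)` has maximal order over all pairs with `→`.  Output (`PP f Ω R = C_Φ(R)`):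
`Mxs.exists_smul_eq` (`PP` is one orbit of `N_Y(R)`), `Mxs.to` (`χ → χ'` for all `χ ≠ χ'` in `PP`, so all these pairs
are symmetric), `Mxs.ker` (`C_V(R) ≤ ker χ`), `Mxs.inf_le`, `Mxs.inf_ne` (`1 ≠ C_B(χ') ≤ R` for `B ∈ BB_x`, `x ∈ Ω`
fixed by a 2-group `≥ R`, `f x = χ ≠ χ'`), `Mxs.existsUnique` (a 2-subgroup of `N_Y(R)` properly containing `R` fixes
exactly one `χ ∈ PP`), `Mxs.exists_gt`, `Mxs.le_of_le`.
-/

set_option autoImplicit false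
set_option linter.unusedSectionVars false

namespace Cfsg.Agent.Omega.NO1.BTTwo

open Subgroup Cfsg.Agent.Omega.Transv Cfsg.Agent.Omega.NearFF

variable {Y : Type*} [Group Y] {V : Type*} [AddCommGroup V] [Module (ZMod 2) V] [DistribMulAction Y V]

attribute [local instance] dualAct

theorem dual_smul_eq (g : Y) (φ : Du V) : g • φ = dua g φ := rfl

theorem dual_smul_apply (g : Y) (φ : Du V) (v : V) : (g • φ) v = φ (g⁻¹ • v) := rfl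

/-- The stabiliser of a functional. -/
def Nf (Y : Type*) {V : Type*} [Group Y] [AddCommGroup V] [Module (ZMod 2) V] [DistribMulAction Y V] (φ : Du V) :
    Subgroup Y :=
  MulAction.stabilizer Y φ

theorem mem_Nf {g : Y} {φ : Du V} : g ∈ Nf Y φ ↔ dua g φ = φ := Iff.rfl

theorem mem_Nf_iff {g : Y} {φ : Du V} : g ∈ Nf Y φ ↔ ∀ v : V, φ (g • v) = φ v := by
  rw [mem_Nf]
  constructor
  · intro h v
    have h1 := LinearMap.congr_fun h (g • v)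
    rw [dua_apply, inv_smul_smul] at h1
    exact h1.symm
  · intro h
    ext v
    rw [dua_apply, ← h (g⁻¹ • v), smul_inv_smul]

/-- The local datum. -/
structure Loc (Y : Type*) {V : Type*} [Group Y] [AddCommGroup V] [Module (ZMod 2) V] [DistribMulAction Y V]
    (Om : Set V) (f : V → Du V) (Q : V → Subgroup Y) (BB : V → Set (Subgroup Y)) : Prop where
  om_smul : ∀ (g : Y), ∀ x ∈ Om, g • x ∈ Om
  f_smul : ∀ (g : Y), ∀ x ∈ Om, f (g • x) = dua g (f x)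
  f_ne : ∀ x ∈ Om, f x ≠ 0
  stab : ∀ x ∈ Om, ∃ S : Sylow 2 Y, Fx (S : Subgroup Y) x
  uniq : ∀ S : Sylow 2 Y, ∀ x ∈ Om, ∀ y ∈ Om, Fx (S : Subgroup Y) x → Fx (S : Subgroup Y) y → f x = f y
  trans : ∀ x ∈ Om, ∀ y ∈ Om, ∃ g : Y, g • x = y
  q_norm : ∀ x ∈ Om, ∀ g : Y, g • x = x → ∀ a ∈ Q x, g * a * g⁻¹ ∈ Q x
  q_two : ∀ x ∈ Om, IsPGroup 2 (Q x)
  q_fix : ∀ x ∈ Om, Fx (Q x) x
  bb_ne : ∀ x ∈ Om, (BB x).Nonempty
  bb_le : ∀ x ∈ Om, ∀ B ∈ BB x, B ≤ Q x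
  bb : ∀ x ∈ Om, ∀ B ∈ BB x, NB (f x) B
  star : ∀ x ∈ Om, ∀ B ∈ BB x, ∀ y ∈ Om, Fx B y → f y = f x

/-- `φ → ψ` -/
def To (Om : Set V) (f : V → Du V) (φ ψ : Du V) : Prop :=
  φ ≠ ψ ∧ ∃ x ∈ Om, ∃ y ∈ Om, f x = φ ∧ f y = ψ ∧ φ y = 0

/-- `φ → ψ` and `R ∈ Syl₂(N_φ ∩ N_ψ)` of maximal order -/
def Mxs (Om : Set V) (f : V → Du V) (R : Subgroup Y) (φ ψ : Du V) : Prop :=
  Mx Y (To Om f) R φ ψ

theorem mxs_iff {Om : Set V} {f : V → Du V} {R : Subgroup Y} {φ ψ : Du V} : Mxs Om f R φ ψ ↔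
    IsPGroup 2 R ∧ To Om f φ ψ ∧ R ≤ Nf Y φ ∧ R ≤ Nf Y ψ ∧ ∀ (φ' ψ' : Du V) (R' : Subgroup Y), To Om f φ' ψ' →
      IsPGroup 2 R' → R' ≤ Nf Y φ' → R' ≤ Nf Y ψ' → Nat.card R' ≤ Nat.card R :=
  ⟨fun h => ⟨h.two, h.rab, h.la, h.lb, h.max⟩, fun h => ⟨h.1, h.2.1, h.2.2.1, h.2.2.2.1, h.2.2.2.2⟩⟩

namespace Loc

variable {Om : Set V} {f : V → Du V} {Q : V → Subgroup Y} {BB : V → Set (Subgroup Y)} (h : Loc Y Om f Q BB)
include h

theorem mem_of_fix {x : V} (hx : x ∈ Om) {g : Y} (hg : g • x = x) : g ∈ Nf Y (f x) := by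
  rw [mem_Nf, ← h.f_smul g x hx, hg]

theorem le_Nf {x : V} (hx : x ∈ Om) {R : Subgroup Y} (hR : Fx R x) : R ≤ Nf Y (f x) :=
  fun g hg => h.mem_of_fix hx (hR g hg)

/-- a 2-subgroup of `N_φ` lies in a Sylow subgroup fixing some `x ∈ Ω` with `f x = φ` -/
theorem exists_point [Finite Y] {x : V} (hx : x ∈ Om) {R : Subgroup Y} (h2 : IsPGroup 2 R) (hR : R ≤ Nf Y (f x)) :
    ∃ S : Sylow 2 Y, R ≤ S ∧ ∃ u ∈ Om, f u = f x ∧ Fx (S : Subgroup Y) u := by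
  have : Fact (Nat.Prime 2) := ⟨Nat.prime_two⟩
  obtain ⟨S, hS⟩ := h.stab x hx
  have hSN : (S : Subgroup Y) ≤ Nf Y (f x) := h.le_Nf hx hS
  obtain ⟨R'', hR''⟩ := (h2.comap_subtype (H := R) (K := Nf Y (f x)) : IsPGroup 2 (R.subgroupOf (Nf Y (f x)))).exists_le_sylow
  obtain ⟨k, hk⟩ := MulAction.exists_smul_eq (Nf Y (f x)) (S.subtype hSN) R''
  refine ⟨(k : Y) • S, ?_, (k : Y) • x, h.om_smul _ _ hx, ?_, ?_⟩
  · intro y hy
    have h1 : (⟨y, hR hy⟩ : Nf Y (f x)) ∈ (R'' : Subgroup (Nf Y (f x))) := hR'' hy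
    rw [← hk] at h1
    obtain ⟨s, hs, e⟩ := h1
    have e' : (k : Y) * s * (k : Y)⁻¹ = y := congrArg Subtype.val e
    rw [← e', Sylow.coe_subgroup_smul]
    exact ⟨s, hs, rfl⟩
  · rw [h.f_smul _ _ hx]
    exact k.2
  · intro g hg
    rw [Sylow.coe_subgroup_smul] at hg
    obtain ⟨s, hs, rfl⟩ := hg
    change ((k : Y) * s * (k : Y)⁻¹) • (k : Y) • x = (k : Y) • x
    rw [smul_smul, inv_mul_cancel_right, mul_smul, hS s hs]

/-- `1 ≠ C_B(y)` for `y ∈ E_x ∩ Ω` -/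
theorem exists_mem {x y : V} (hx : x ∈ Om) {B : Subgroup Y} (hB : B ∈ BB x) (hxy : f x y = 0) :
    ∃ b ∈ B, b ≠ 1 ∧ b • y = y := by
  obtain ⟨b, hb, hby, v, d, hv, hd, e⟩ := (h.bb x hx B hB).exists_b (h.f_ne x hx) hxy
  by_cases h1 : b = 1
  · subst h1
    have h2 : Fx B y := by
      rw [e, cm_one, zero_add]
      exact hd
    by_cases hBb : B = ⊥
    · exact absurd hBb (h.bb x hx B hB).ne
    · obtain ⟨c, hc, hc1⟩ := B.bot_or_exists_ne_one.resolve_left hBb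
      exact ⟨c, hc, hc1, h2 c hc⟩
  · exact ⟨b, hb, h1, hby⟩

theorem to_iff {x y : V} (hx : x ∈ Om) (hy : y ∈ Om) (hxy : f x y = 0) (hne : f x ≠ f y) : To Om f (f x) (f y) :=
  ⟨hne, x, hx, y, hy, rfl, rfl, hxy⟩

/-- `φ = f x → ψ`, `R ∈ Syl₂(N_φ ∩ N_ψ)`, `R` fixes `x`: `Q_x ∩ N_ψ ≤ R`. -/
theorem q_le [Finite Y] {x : V} (hx : x ∈ Om) {ψ : Du V} {R : Subgroup Y} (h2 : IsPGroup 2 R) (hRx : Fx R x)
    (hR : R ≤ Nf Y ψ)
    (hmax : ∀ R' : Subgroup Y, IsPGroup 2 R' → R ≤ R' → R' ≤ Nf Y (f x) → R' ≤ Nf Y ψ → R' ≤ R) :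
    Q x ⊓ Nf Y ψ ≤ R := by
  have : Fact (Nat.Prime 2) := ⟨Nat.prime_two⟩
  have hn : R ≤ normalizer ((Q x ⊓ Nf Y ψ : Subgroup Y) : Set Y) := by
    have key : ∀ g ∈ R, ∀ a ∈ Q x ⊓ Nf Y ψ, g * a * g⁻¹ ∈ Q x ⊓ Nf Y ψ := fun g hg a ha =>
      ⟨h.q_norm x hx g (hRx g hg) a ha.1, (Nf Y ψ).mul_mem ((Nf Y ψ).mul_mem (hR hg) ha.2) ((Nf Y ψ).inv_mem (hR hg))⟩
    intro g hg
    rw [mem_normalizer_iff]
    intro a
    refine ⟨fun ha => key g hg a ha, fun ha => ?_⟩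
    have := key g⁻¹ (R.inv_mem hg) _ ha
    simpa [mul_assoc] using this
  have h3 : IsPGroup 2 (R ⊔ (Q x ⊓ Nf Y ψ) : Subgroup Y) :=
    IsPGroup.to_sup_of_normal_right' h2 ((h.q_two x hx).to_le inf_le_left) hn
  refine le_sup_right.trans (hmax _ h3 le_sup_left ?_ (sup_le hR inf_le_right))
  exact sup_le (h.le_Nf hx hRx) (inf_le_left.trans (h.le_Nf hx (h.q_fix x hx)))

/-- `φ → ψ`, `R ∈ Syl₂(N_φ ∩ N_ψ)`: `C_V(R) ≤ ker φ`. -/
theorem ker_of [Finite Y] {φ ψ : Du V} (hr : To Om f φ ψ) {R : Subgroup Y} (h2 : IsPGroup 2 R)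
    (ha : R ≤ Nf Y φ) (hb : R ≤ Nf Y ψ)
    (hmax : ∀ R' : Subgroup Y, IsPGroup 2 R' → R ≤ R' → R' ≤ Nf Y φ → R' ≤ Nf Y ψ → R' ≤ R) {v : V}
    (hv : Fx R v) : φ v = 0 := by
  obtain ⟨-, x₀, hx₀, y₀, hy₀, rfl, rfl, hxy⟩ := hr
  obtain ⟨S, hRS, x, hx, hfx, hSx⟩ := h.exists_point hx₀ h2 ha
  obtain ⟨B, hB⟩ := h.bb_ne x hx
  rw [← hfx] at hxy ha hmax ⊢
  obtain ⟨b, hb1, hb2, hb3⟩ := h.exists_mem hx hB hxy
  have h4 : b ∈ R := by
    exact h.q_le hx h2 (fun g hg => hSx g (hRS hg)) hb hmax ⟨h.bb_le x hx B hB hb1, h.mem_of_fix hy₀ hb3⟩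
  exact (h.bb x hx B hB).fix hb1 hb2 (hv b h4)

/-- the functionals of `Ω` satisfy the hypotheses of `Rel` -/
theorem rel [Finite Y] : Rel Y (f '' Om) (To Om f) where
  inv := by
    rintro g _ ⟨x, hx, rfl⟩
    exact ⟨g • x, h.om_smul g x hx, h.f_smul g x hx⟩
  rinv := by
    rintro g _ _ ⟨hne, x, hx, y, hy, rfl, rfl, hxy⟩
    refine ⟨fun e => hne (smul_left_cancel g e), g • x, h.om_smul g x hx, g • y, h.om_smul g y hy,
      h.f_smul g x hx, h.f_smul g y hy, ?_⟩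
    rw [dual_smul_apply, inv_smul_smul, hxy]
  left := by
    rintro _ _ ⟨-, x, hx, -, -, rfl, -⟩
    exact ⟨x, hx, rfl⟩
  right := by
    rintro _ _ ⟨-, -, -, y, hy, -, rfl, -⟩
    exact ⟨y, hy, rfl⟩
  ne := fun _ _ h => h.1
  syl := by
    rintro S _ ⟨x, hx, rfl⟩ _ ⟨y, hy, rfl⟩ h1 h2
    obtain ⟨S₁, h3, u, hu, e1, hSu⟩ := h.exists_point hx S.isPGroup' h1
    obtain ⟨S₂, h4, w, hw, e2, hSw⟩ := h.exists_point hy S.isPGroup' h2
    rw [← e1, ← e2]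
    exact h.uniq S u hu w hw (fun g hg => hSu g (h3 hg)) (fun g hg => hSw g (h4 hg))
  stab := by
    rintro _ ⟨x, hx, rfl⟩
    obtain ⟨S, hS⟩ := h.stab x hx
    exact ⟨S, h.le_Nf hx hS⟩
  ext := by
    rintro φ ψ hr R h2 ha hb hmax _ ⟨u₀, hu₀, rfl⟩ hne hR
    obtain ⟨S, hRS, u, hu, e, hSu⟩ := h.exists_point hu₀ h2 hR
    have h3 := h.ker_of hr h2 ha hb hmax (fun g hg => hSu g (hRS hg))
    obtain ⟨-, x, hx, -, -, rfl, -, -⟩ := hr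
    rw [← e]
    exact ⟨fun h0 => hne (e ▸ h0.symm), x, hx, u, hu, rfl, rfl, h3⟩

theorem exists_mxs [Finite Y] {φ ψ : Du V} (hr : To Om f φ ψ) :
    ∃ (R : Subgroup Y) (φ' ψ' : Du V), Mxs Om f R φ' ψ' :=
  exists_mx hr

end Loc

namespace Mxs

variable {Om : Set V} {f : V → Du V} {Q : V → Subgroup Y} {BB : V → Set (Subgroup Y)} {R : Subgroup Y}
  {φ ψ : Du V}

/-- **`C_Φ(R)` is one orbit of `N_Y(R)`** -/
theorem exists_smul_eq [Finite Y] (h : Loc Y Om f Q BB) (m : Mxs Om f R φ ψ) {x : V} (hx : x ∈ Om)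
    (hR : R ≤ Nf Y (f x)) : ∃ n ∈ normalizer (R : Set Y), dua n φ = f x :=
  Mx.exists_smul_eq h.rel m ⟨x, hx, rfl⟩ hR

/-- all pairs of `C_Φ(R)` are maximal (in particular `→` and symmetric) -/
theorem mxs [Finite Y] (h : Loc Y Om f Q BB) (m : Mxs Om f R φ ψ) {x y : V} (hx : x ∈ Om) (hR : R ≤ Nf Y (f x))
    (hy : y ∈ Om) (hR' : R ≤ Nf Y (f y)) (hne : f x ≠ f y) : Mxs Om f R (f x) (f y) :=
  Mx.mx h.rel m ⟨x, hx, rfl⟩ hR ⟨y, hy, rfl⟩ hR' hne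

theorem symm [Finite Y] (h : Loc Y Om f Q BB) (m : Mxs Om f R φ ψ) : Mxs Om f R ψ φ :=
  Mx.mx h.rel m (h.rel.right _ _ m.rab) m.lb (h.rel.left _ _ m.rab) m.la (h.rel.ne _ _ m.rab).symm

/-- `R ∈ Syl₂(N_χ ∩ N_χ')` -/
theorem le_of_le [Finite Y] (h : Loc Y Om f Q BB) (m : Mxs Om f R φ ψ) {x y : V} (hx : x ∈ Om) (hy : y ∈ Om)
    (hne : f x ≠ f y) {R' : Subgroup Y} (h2 : IsPGroup 2 R') (hle : R ≤ R') (h3 : R' ≤ Nf Y (f x))
    (h4 : R' ≤ Nf Y (f y)) : R' ≤ R :=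
  Mx.le_of_le h.rel m ⟨x, hx, rfl⟩ ⟨y, hy, rfl⟩ hne h2 hle h3 h4

/-- **`C_V(R) ≤ ker φ`** -/
theorem ker [Finite Y] (h : Loc Y Om f Q BB) (m : Mxs Om f R φ ψ) {v : V} (hv : Fx R v) : φ v = 0 :=
  h.ker_of m.rab m.two m.la m.lb (fun _ h1 h2 h3 h4 => Mx.le_of m m.rab h1 h2 h3 h4) hv

/-- `C_V(R) ≤ ker ψ` -/
theorem ker' [Finite Y] (h : Loc Y Om f Q BB) (m : Mxs Om f R φ ψ) {v : V} (hv : Fx R v) : ψ v = 0 :=
  (m.symm h).ker h hv

/-- points `x ∈ Ω` fixed by a Sylow subgroup `≥ R` with `f x = φ` -/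
theorem exists_point [Finite Y] (h : Loc Y Om f Q BB) (m : Mxs Om f R φ ψ) :
    ∃ S : Sylow 2 Y, R ≤ S ∧ ∃ x ∈ Om, f x = φ ∧ Fx (S : Subgroup Y) x := by
  obtain ⟨x, hx, e⟩ := h.rel.left _ _ m.rab
  have h1 := h.exists_point hx m.two (e.symm ▸ m.la)
  rwa [e] at h1

/-- **`Q_x ∩ N_ψ ≤ R`** for `x ∈ Ω ∩ C_V(R)`, `f x = φ` -/
theorem q_le [Finite Y] (h : Loc Y Om f Q BB) (m : Mxs Om f R φ ψ) {x : V} (hx : x ∈ Om) (hfx : f x = φ)
    (hRx : Fx R x) : Q x ⊓ Nf Y ψ ≤ R := by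
  subst hfx
  exact h.q_le hx m.two hRx m.lb fun _ h1 h2 h3 h4 => Mx.le_of m m.rab h1 h2 h3 h4

/-- **`B ∩ R = C_B(y)`** for `x, y ∈ Ω ∩ C_V(R)`, `f x = φ`, `f y = ψ`, `B ∈ BB_x` -/
theorem mem_iff [Finite Y] (h : Loc Y Om f Q BB) (m : Mxs Om f R φ ψ) {x y : V} (hx : x ∈ Om) (hfx : f x = φ)
    (hRx : Fx R x) (hy : y ∈ Om) (hfy : f y = ψ) (hRy : Fx R y) {B : Subgroup Y} (hB : B ∈ BB x) {b : Y}
    (hb : b ∈ B) : b ∈ R ↔ b • y = y := by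
  subst hfy
  exact ⟨fun hR => hRy b hR, fun hby => m.q_le h hx hfx hRx ⟨h.bb_le x hx B hB hb, h.mem_of_fix hy hby⟩⟩

/-- `C_B(ψ) ≠ 1` -/
theorem exists_mem [Finite Y] (h : Loc Y Om f Q BB) (m : Mxs Om f R φ ψ) {x y : V} (hx : x ∈ Om) (hfx : f x = φ)
    (hRx : Fx R x) (hy : y ∈ Om) (hfy : f y = ψ) (hRy : Fx R y) {B : Subgroup Y} (hB : B ∈ BB x) :
    ∃ b ∈ B, b ≠ 1 ∧ b ∈ R := by
  obtain ⟨b, h1, h2, h3⟩ := h.exists_mem hx hB (by rw [hfx]; exact m.ker h hRy)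
  exact ⟨b, h1, h2, (m.mem_iff h hx hfx hRx hy hfy hRy hB h1).2 h3⟩

/-- `R < N_{T_x}(R)` -/
theorem exists_gt [Finite Y] (h : Loc Y Om f Q BB) (m : Mxs Om f R φ ψ) {x : V} (hx : x ∈ Om)
    (hR : R ≤ Nf Y (f x)) :
    ∃ R' : Subgroup Y, IsPGroup 2 R' ∧ R < R' ∧ R' ≤ normalizer (R : Set Y) ∧ R' ≤ Nf Y (f x) ∧
      ∃ T : Sylow 2 Y, R' ≤ T ∧ (T : Subgroup Y) ≤ Nf Y (f x) :=
  Mx.exists_gt h.rel m ⟨x, hx, rfl⟩ hR

/-- **a 2-subgroup of `N_Y(R)` properly containing `R` fixes exactly one member of `Φ`** -/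
theorem existsUnique [Finite Y] (h : Loc Y Om f Q BB) (m : Mxs Om f R φ ψ) {R₁ : Subgroup Y}
    (h2 : IsPGroup 2 R₁) (hlt : R < R₁) (hN : R₁ ≤ normalizer (R : Set Y)) :
    ∃! χ : Du V, χ ∈ f '' Om ∧ R₁ ≤ Nf Y χ :=
  Mx.existsUnique h.rel m h2 hlt hN

/-- transport by `n ∈ N_Y(R)` -/
theorem smul [Finite Y] (h : Loc Y Om f Q BB) (m : Mxs Om f R φ ψ) {n : Y} (hn : n ∈ normalizer (R : Set Y)) :
    Mxs Om f R (dua n φ) (dua n ψ) :=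
  Mx.smul h.rel m hn

/-- some `n ∈ N_Y(R)` takes `φ` to `ψ` -/
theorem exists_move [Finite Y] (h : Loc Y Om f Q BB) (m : Mxs Om f R φ ψ) :
    ∃ n ∈ normalizer (R : Set Y), dua n φ = ψ :=
  Mx.exists_move h.rel m

end Mxs

/-- **`Dat` gives the local datum on `Ω = z^Y`** -/
theorem loc_of_dat [Finite Y] {T : Sylow 2 Y} {M : Subgroup Y} {z : V} {f : V → Du V} {Q : V → Subgroup Y}
    {BB : V → Set (Subgroup Y)} (h : Dat T M z f Q BB) : Loc Y (MulAction.orbit Y z) f Q BB where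
  om_smul := fun g x hx => smul_orbit hx g
  f_smul := h.f_smul
  f_ne := by
    rintro _ ⟨g, rfl⟩ h0
    apply h.f_ne
    change f (g • z) = 0 at h0
    rw [h.f_smul g z (MulAction.mem_orbit_self z)] at h0
    ext v
    have h1 := LinearMap.congr_fun h0 (g • v)
    rw [dua_apply, inv_smul_smul] at h1
    exact h1
  stab := by
    rintro _ ⟨g, rfl⟩
    refine ⟨g • T, fun s hs => ?_⟩
    rw [Sylow.coe_subgroup_smul] at hs
    obtain ⟨t, ht, rfl⟩ := hs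
    change (g * t * g⁻¹) • g • z = g • z
    rw [smul_smul, inv_mul_cancel_right, mul_smul, h.z_fix t ht]
  uniq := by
    intro S x hx y hy h1 h2
    have : Fact (Nat.Prime 2) := ⟨Nat.prime_two⟩
    obtain ⟨g, hg⟩ := MulAction.exists_smul_eq Y T S
    have key : ∀ w ∈ MulAction.orbit Y z, Fx (S : Subgroup Y) w → w = g • z := by
      intro w hw hSw
      have h3 : Fx (T : Subgroup Y) (g⁻¹ • w) := by
        intro t ht
        have h4 : g * t * g⁻¹ ∈ (S : Subgroup Y) := by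
          rw [← hg, Sylow.coe_subgroup_smul]
          exact ⟨t, ht, rfl⟩
        have h5 := hSw _ h4
        rw [mul_smul, mul_smul] at h5
        have h6 := congrArg (fun u => g⁻¹ • u) h5
        simpa using h6
      rcases h.fixT _ h3 with h4 | h4
      · obtain ⟨k, rfl⟩ := hw
        exfalso
        apply h.z_ne
        have h5 : k • z = 0 := by
          have := congrArg (fun u => g • u) h4
          simpa using this
        have := congrArg (fun u => k⁻¹ • u) h5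
        simpa using this
      · rw [← h4, smul_inv_smul]
    rw [key x hx h1, key y hy h2]
  trans := by
    rintro _ ⟨g, rfl⟩ _ ⟨k, rfl⟩
    exact ⟨k * g⁻¹, by simp [mul_smul]⟩
  q_norm := by
    intro x hx g hg a ha
    have h1 := h.q_smul g x hx a ha
    rwa [hg] at h1
  q_two := by
    rintro _ ⟨g, rfl⟩
    have h1 : (Q (g • z)).map (MulAut.conj g⁻¹).toMonoidHom ≤ Q z := by
      rintro _ ⟨a, ha, rfl⟩
      have h2 := h.q_smul g⁻¹ (g • z) ⟨g, rfl⟩ a ha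
      rwa [inv_smul_smul] at h2
    have h2 := h.q_two.to_le h1
    exact IsPGroup.of_injective h2 ((Q (g • z)).equivMapOfInjective _ (MulAut.conj g⁻¹).injective).toMonoidHom
      (MulEquiv.injective _)
  q_fix := by
    rintro _ ⟨g, rfl⟩ a ha
    have h2 := h.q_smul g⁻¹ (g • z) ⟨g, rfl⟩ a ha
    rw [inv_smul_smul] at h2
    have h3 := h.q_fix _ h2
    change a • g • z = g • z
    rw [mul_smul, mul_smul, inv_inv] at h3
    have := congrArg (fun u => g • u) h3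
    simpa using this
  bb_ne := by
    rintro _ ⟨g, rfl⟩
    obtain ⟨B, hB⟩ := h.bb_ne
    exact ⟨_, h.bb_smul g z (MulAction.mem_orbit_self z) B hB⟩
  bb_le := by
    rintro _ ⟨g, rfl⟩ B hB b hb
    have h1 := h.bb_smul g⁻¹ (g • z) ⟨g, rfl⟩ B hB
    rw [inv_smul_smul] at h1
    have h2 := h.bb_le _ h1 ⟨b, hb, rfl⟩
    have h3 := h.q_smul g z (MulAction.mem_orbit_self z) _ h2
    change g * (g⁻¹ * b * g⁻¹⁻¹) * g⁻¹ ∈ Q (g • z) at h3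
    have h4 : g * (g⁻¹ * b * g⁻¹⁻¹) * g⁻¹ = b := by group
    rwa [h4] at h3
  bb := by
    rintro _ ⟨g, rfl⟩ B hB
    have h1 := h.bb_smul g⁻¹ (g • z) ⟨g, rfl⟩ B hB
    rw [inv_smul_smul] at h1
    have h2 := h.bb _ h1
    change NB (f (g • z)) B
    rw [h.f_smul g z (MulAction.mem_orbit_self z)]
    have hm : ∀ b ∈ B, g⁻¹ * b * g ∈ B.map (MulAut.conj g⁻¹).toMonoidHom := by
      intro b hb
      refine ⟨b, hb, ?_⟩
      change g⁻¹ * b * g⁻¹⁻¹ = g⁻¹ * b * g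
      rw [inv_inv]
    have hfx : ∀ v : V, Fx B v ↔ Fx (B.map (MulAut.conj g⁻¹).toMonoidHom) (g⁻¹ • v) := by
      intro v
      constructor
      · rintro hv _ ⟨b, hb, rfl⟩
        change (g⁻¹ * b * g⁻¹⁻¹) • g⁻¹ • v = g⁻¹ • v
        rw [inv_inv, smul_smul, mul_inv_cancel_right, mul_smul, hv b hb]
      · intro hv b hb
        have := hv _ (hm b hb)
        rw [smul_smul, mul_inv_cancel_right, mul_smul] at this
        exact smul_left_cancel g⁻¹ this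
    have hcm : ∀ (b : Y) (v : V), g⁻¹ • cm b v = cm (g⁻¹ * b * g) (g⁻¹ • v) := by
      intro b v
      rw [smul_cm_conj, inv_inv]
    refine ⟨?_, ?_, ?_, ?_, ?_, ?_, ?_⟩
    · intro a ha b hb
      have h3 := h2.comm _ (hm a ha) _ (hm b hb)
      have h4 : g⁻¹ * (a * b) * g = g⁻¹ * (b * a) * g := by
        calc g⁻¹ * (a * b) * g = g⁻¹ * a * g * (g⁻¹ * b * g) := by group
          _ = g⁻¹ * b * g * (g⁻¹ * a * g) := h3
          _ = g⁻¹ * (b * a) * g := by group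
      exact mul_left_cancel (mul_right_cancel h4)
    · intro b hb
      have h3 := h2.sq _ (hm b hb)
      have h4 : g⁻¹ * (b * b) * g = g⁻¹ * 1 * g := by
        calc g⁻¹ * (b * b) * g = g⁻¹ * b * g * (g⁻¹ * b * g) := by group
          _ = 1 := h3
          _ = g⁻¹ * 1 * g := by group
      exact mul_left_cancel (mul_right_cancel h4)
    · rintro rfl
      exact h2.ne (by rw [Subgroup.map_bot])
    · intro b hb v
      rw [dua_apply, dua_apply]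
      have h3 := h2.inv _ (hm b hb) (g⁻¹ • v)
      rwa [smul_smul, mul_inv_cancel_right, mul_smul] at h3
    · intro e he b hb
      rw [dua_apply] at he
      rw [hfx, hcm]
      exact h2.ed _ he _ (hm b hb)
    · intro v hv b hb hd
      rw [dua_apply] at hv
      rw [hfx, hcm] at hd
      have h3 := h2.inj _ hv _ (hm b hb) hd
      have h4 : b = g * (g⁻¹ * b * g) * g⁻¹ := by group
      rw [h4, h3, mul_one, mul_inv_cancel]
    · intro v e hv he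
      rw [dua_apply] at hv he
      obtain ⟨_, ⟨b, hb, rfl⟩, h3⟩ := h2.surj _ _ hv he
      refine ⟨b, hb, ?_⟩
      rw [hfx, smul_add, hcm]
      have h4 : (MulAut.conj g⁻¹).toMonoidHom b = g⁻¹ * b * g := by
        change g⁻¹ * b * g⁻¹⁻¹ = g⁻¹ * b * g
        rw [inv_inv]
      rwa [h4] at h3
  star := by
    rintro _ ⟨g, rfl⟩ B hB y hy hBy
    have h1 := h.bb_smul g⁻¹ (g • z) ⟨g, rfl⟩ B hB
    rw [inv_smul_smul] at h1
    have h2 := h.star _ h1 (g⁻¹ • y) (smul_orbit hy _) (by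
      rintro _ ⟨b, hb, rfl⟩
      change (g⁻¹ * b * g⁻¹⁻¹) • g⁻¹ • y = g⁻¹ • y
      rw [inv_inv, smul_smul, mul_inv_cancel_right, mul_smul, hBy b hb])
    rw [h.f_smul _ _ hy] at h2
    change f y = f (g • z)
    rw [h.f_smul g z (MulAction.mem_orbit_self z), ← h2]
    ext v
    rw [dua_apply, dua_apply, inv_inv, smul_inv_smul]

end Cfsg.Agent.Omega.NO1.BTTwo
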