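import Cfsg.Agent.Omega.NearFF.Good
import Cfsg.Agent.Omega.NO1.BTTwo.MaxSyl

/-!
# N1, (BT), `|V/E| = 2`: THEOREM 1 of #16497 (helper353; referee helper630 #16900)

The block `F_x = ⋂ C_V(B)`, `B ∈ BB x`, is `⟨x⟩` if `BB(u) = BB x` for all `0 ≠ u ∈ F_x`
(`BB(u)` = all members of all `BB y` fixing `u`).

* `Cfg` : the configuration, all points; `Cfg.eq_of_mem_FF` : the theorem;
* `Cfg.of_dat`, `block_eq_line` : the theorem on `Dat`.
-/

set_option autoImplicit false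
set_option linter.unusedSectionVars false

namespace Cfsg.Agent.Omega.NO1.BTTwo.Blocks

open Subgroup Cfsg.Agent.Omega.Transv Cfsg.Agent.Omega.NearFF

variable {Y : Type*} [Group Y] {V : Type*} [AddCommGroup V] [Module (ZMod 2) V] [DistribMulAction Y V]

/-- the block of `x` -/
def FF (BB : V → Set (Subgroup Y)) (x : V) : AddSubgroup V where
  carrier := {v | ∀ B ∈ BB x, Fx B v}
  zero_mem' := fun B _ => Fx.zero B
  add_mem' := fun ha hb B hB => (ha B hB).add (hb B hB)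
  neg_mem' := by
    intro v hv B hB
    rw [Transv.neg_eq]
    exact hv B hB

theorem mem_FF {BB : V → Set (Subgroup Y)} {x v : V} : v ∈ FF BB x ↔ ∀ B ∈ BB x, Fx B v := Iff.rfl

/-- The configuration: `BB(u) = BB x` for all `0 ≠ u ∈ F_x` (field `hM`). -/
structure Cfg (Om : Set V) (f : V → Du V) (Q : V → Subgroup Y) (BB : V → Set (Subgroup Y)) : Prop where
  faith : Faith Y V
  nt : NT Y V
  smul : ∀ (g : Y), ∀ x ∈ Om, g • x ∈ Om
  trans : ∀ x ∈ Om, ∀ y ∈ Om, ∃ g : Y, g • x = y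
  ne : ∀ x ∈ Om, x ≠ 0
  sep : ∀ v : V, v ≠ 0 → ∃ x ∈ Om, f x v = 1
  f_smul : ∀ (g : Y), ∀ x ∈ Om, f (g • x) = dua g (f x)
  f_ne : ∀ x ∈ Om, f x ≠ 0
  q_two : ∀ x ∈ Om, IsPGroup 2 (Q x)
  q_fix : ∀ x ∈ Om, Fx (Q x) x
  bb_smul : ∀ (g : Y), ∀ x ∈ Om, ∀ B ∈ BB x, B.map (MulAut.conj g).toMonoidHom ∈ BB (g • x)
  bb_ne : ∀ x ∈ Om, (BB x).Nonempty
  bb_le : ∀ x ∈ Om, ∀ B ∈ BB x, B ≤ Q x
  bb_norm : ∀ x ∈ Om, ∀ B ∈ BB x, ∀ a ∈ Q x, ∀ b ∈ B, a * b * a⁻¹ ∈ B
  bb : ∀ x ∈ Om, ∀ B ∈ BB x, NB (f x) B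
  star : ∀ x ∈ Om, ∀ B ∈ BB x, ∀ y ∈ Om, Fx B y → f y = f x
  hM : ∀ x ∈ Om, ∀ u : V, u ≠ 0 → (∀ B ∈ BB x, Fx B u) → ∀ y ∈ Om, ∀ B ∈ BB y, Fx B u → B ∈ BB x

theorem smul_ne {g : Y} {u : V} (hu : u ≠ 0) : g • u ≠ 0 := by
  intro h0
  apply hu
  rw [← inv_smul_smul g u, h0, smul_zero]

theorem mem_conj_inv {B : Subgroup Y} {g b : Y} (hb : b ∈ B) :
    g⁻¹ * b * g ∈ B.map (MulAut.conj g⁻¹).toMonoidHom := by
  refine ⟨b, hb, ?_⟩
  change g⁻¹ * b * g⁻¹⁻¹ = _
  rw [inv_inv]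

/-- `|B| = |ker| |image|` for a map that is additive on `B` -/
theorem card_hom [Finite Y] {B : Subgroup Y} (φ : Y → V)
    (hφ : ∀ b ∈ B, ∀ b' ∈ B, φ (b * b') = φ b + φ b') :
    Nat.card B = Nat.card {b : Y // b ∈ B ∧ φ b = 0} * Nat.card {v : V // ∃ b ∈ B, φ b = v} := by
  have h1 : φ 1 = 0 := by
    have h2 := hφ 1 (one_mem B) 1 (one_mem B)
    rw [mul_one] at h2
    exact left_eq_add.mp h2
  let ψ : B →* Multiplicative V :=
    { toFun := fun b => Multiplicative.ofAdd (φ b)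
      map_one' := congrArg Multiplicative.ofAdd h1
      map_mul' := fun b b' => congrArg Multiplicative.ofAdd (hφ b b.2 b' b'.2) }
  have h2 : Nat.card ψ.ker = Nat.card {b : Y // b ∈ B ∧ φ b = 0} := by
    refine Nat.card_congr ⟨fun k => ⟨(k : B), (k : B).2, k.2⟩, fun k => ⟨⟨k, k.2.1⟩, k.2.2⟩, ?_, ?_⟩
    · rintro ⟨⟨k, hk⟩, hk'⟩
      rfl
    · rintro ⟨k, hk⟩
      rfl
  have h3 : Nat.card ψ.range = Nat.card {v : V // ∃ b ∈ B, φ b = v} := by
    refine Nat.card_congr ⟨fun k => ⟨Multiplicative.toAdd (k : Multiplicative V), ?_⟩,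
      fun k => ⟨Multiplicative.ofAdd (k : V), ?_⟩, ?_, ?_⟩
    · obtain ⟨b, hb⟩ := k.2
      exact ⟨b, b.2, congrArg Multiplicative.toAdd hb⟩
    · obtain ⟨b, hb, hk⟩ := k.2
      exact ⟨⟨b, hb⟩, congrArg Multiplicative.ofAdd hk⟩
    · rintro ⟨k, hk⟩
      rfl
    · rintro ⟨k, hk⟩
      rfl
  rw [← h2, ← h3, Subgroup.card_eq_card_quotient_mul_card_subgroup ψ.ker, mul_comm]
  congr 1
  exact Nat.card_congr (QuotientGroup.quotientKerEquivRange ψ).toEquiv

namespace Cfg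

variable {Om : Set V} {f : V → Du V} {Q : V → Subgroup Y} {BB : V → Set (Subgroup Y)}
  (c : Cfg Om f Q BB)
include c

theorem self_mem {x : V} (hx : x ∈ Om) : x ∈ FF BB x := fun B hB b hb =>
  c.q_fix x hx b (c.bb_le x hx B hB hb)

/-- `C_V(B) ≤ E_x` for `B ∈ BB x` -/
theorem fix_le {x : V} (hx : x ∈ Om) {B : Subgroup Y} (hB : B ∈ BB x) {v : V} (hv : Fx B v) :
    f x v = 0 := by
  have hN := c.bb x hx B hB
  have hne : ∃ b ∈ B, b ≠ 1 := by
    by_contra hc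
    push Not at hc
    exact hN.ne ((eq_bot_iff_forall B).2 hc)
  obtain ⟨b, hb, hb1⟩ := hne
  exact hN.fix hb hb1 (hv b hb)

theorem FF_le {x : V} (hx : x ∈ Om) {v : V} (hv : v ∈ FF BB x) : f x v = 0 := by
  obtain ⟨B, hB⟩ := c.bb_ne x hx
  exact c.fix_le hx hB (hv B hB)

theorem smul_FF {x : V} (hx : x ∈ Om) (g : Y) {v : V} (hv : v ∈ FF BB x) : g • v ∈ FF BB (g • x) := by
  intro B hB b hb
  have h1 := c.bb_smul g⁻¹ _ (c.smul g x hx) B hB
  rw [inv_smul_smul] at h1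
  have h2 := hv _ h1 _ (mem_conj_inv hb)
  rw [mul_smul, mul_smul, inv_smul_eq_iff] at h2
  exact h2

theorem inv_smul_FF {x : V} (hx : x ∈ Om) (g : Y) {v : V} (hv : v ∈ FF BB (g • x)) :
    g⁻¹ • v ∈ FF BB x := by
  have h1 := c.smul_FF (c.smul g x hx) g⁻¹ hv
  rwa [inv_smul_smul] at h1

theorem BB_eq {x y u : V} (hx : x ∈ Om) (hy : y ∈ Om) (hu : u ≠ 0) (hux : u ∈ FF BB x) (huy : u ∈ FF BB y) :
    BB x = BB y := by
  ext B
  exact ⟨fun hB => c.hM y hy u hu huy x hx B hB (hux B hB), fun hB => c.hM x hx u hu hux y hy B hB (huy B hB)⟩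

theorem f_eq_of_BB {x y : V} (hx : x ∈ Om) (hy : y ∈ Om) (h : BB x = BB y) : f x = f y := by
  obtain ⟨B, hB⟩ := c.bb_ne y hy
  exact c.star y hy B hB x hx (c.self_mem hx B (h ▸ hB))

theorem FF_eq_of_BB {x y : V} (h : BB x = BB y) : FF BB x = FF BB y := by
  ext v
  rw [mem_FF, mem_FF, h]

/-- `g` normalises the block of `x` -/
theorem st_of {x : V} (hx : x ∈ Om) {g : Y} {u : V} (hu : u ≠ 0) (hux : u ∈ FF BB x)
    (hgu : g • u ∈ FF BB x) : BB (g • x) = BB x :=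
  c.BB_eq (c.smul g x hx) hx (smul_ne hu) (c.smul_FF hx g hux) hgu

theorem st_fix {x : V} (hx : x ∈ Om) {g : Y} {u : V} (hu : u ≠ 0) (hux : u ∈ FF BB x)
    (hgu : g • u = u) : BB (g • x) = BB x :=
  c.st_of hx hu hux (hgu.symm ▸ hux)

theorem st_mem {x : V} (hx : x ∈ Om) {g : Y} (hg : BB (g • x) = BB x) {v : V} (hv : v ∈ FF BB x) :
    g • v ∈ FF BB x := by
  rw [← c.FF_eq_of_BB hg]
  exact c.smul_FF hx g hv

theorem st_f {x : V} (hx : x ∈ Om) {g : Y} (hg : BB (g • x) = BB x) (v : V) : f x (g • v) = f x v := by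
  have h1 := c.f_eq_of_BB (c.smul g x hx) hx hg
  rw [← h1, c.f_smul g x hx, dua_apply, inv_smul_smul, ← c.f_smul g x hx, h1]

theorem st_cm {x : V} (hx : x ∈ Om) {g : Y} (hg : BB (g • x) = BB x) (v : V) : f x (cm g v) = 0 := by
  rw [cm, map_add, c.st_f hx hg, add_self]

theorem st_inv {x : V} (hx : x ∈ Om) {g : Y} (hg : BB (g • x) = BB x) : BB (g⁻¹ • x) = BB x :=
  c.st_of hx (smul_ne (c.ne x hx)) (c.st_mem hx hg (c.self_mem hx))
    (by rw [inv_smul_smul]; exact c.self_mem hx)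

theorem st_mul {x : V} (hx : x ∈ Om) {g k : Y} (hg : BB (g • x) = BB x) (hk : BB (k • x) = BB x) :
    BB ((g * k) • x) = BB x :=
  c.st_of hx (c.ne x hx) (c.self_mem hx) (by
    rw [mul_smul]
    exact c.st_mem hx hg (c.st_mem hx hk (c.self_mem hx)))

theorem st_bb {x : V} (hx : x ∈ Om) {g : Y} (hg : BB (g • x) = BB x) {B : Subgroup Y} (hB : B ∈ BB x) :
    B.map (MulAut.conj g).toMonoidHom ∈ BB x := hg ▸ c.bb_smul g x hx B hB

/-- (1) -/
theorem meet {x y u v : V} (hx : x ∈ Om) (hy : y ∈ Om) (hv : v ∈ FF BB x) (hv1 : f y v = 1)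
    {B : Subgroup Y} (hB : B ∈ BB y) (hu : u ∈ FF BB x) (hf : Fx B u) : u = 0 := by
  by_contra h0
  have h1 := c.hM x hx u h0 hu y hy B hB hf
  have h2 := c.star y hy B hB x hx (c.self_mem hx B h1)
  rw [← h2, c.FF_le hx hv] at hv1
  exact zero_ne_one' hv1

/-- (1): the transvection `c_w` of the block of `x`, axis `F_x ∩ E_y` -/
theorem exists_c {x y u : V} (hx : x ∈ Om) (hy : y ∈ Om) (hu : u ∈ FF BB x) (hu1 : f y u = 1)
    {B : Subgroup Y} (hB : B ∈ BB y) {w : V} (hw : w ∈ FF BB x) (hw0 : f y w = 0) :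
    ∃ b ∈ B, BB (b • x) = BB x ∧ ∀ v ∈ FF BB x, b • v = v + f y v • w := by
  by_cases h0 : w = 0
  · refine ⟨1, one_mem _, by rw [one_smul], fun v _ => ?_⟩
    rw [h0, smul_zero, add_zero, one_smul]
  have hN := c.bb y hy B hB
  obtain ⟨b, hb, hd⟩ := hN.surj u w hu1 hw0
  have hbw : b • w = w := by
    have h1 := hd b hb
    rw [smul_add, hN.smul_cm_self hb] at h1
    exact add_left_cancel h1
  have hst := c.st_fix hx h0 hw hbw
  have h1 : cm b u + w = 0 := by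
    refine c.meet hx hy hu hu1 hB (add_mem (add_mem (c.st_mem hx hst hu) hu) hw) hd
  have h2 : cm b u = w := eq_of_add h1
  have h3 : ∀ v ∈ FF BB x, f y v = 0 → cm b v = 0 := by
    intro v hv hv0
    exact c.meet hx hy hu hu1 hB (add_mem (c.st_mem hx hst hv) hv) (hN.ed v hv0 b hb)
  refine ⟨b, hb, hst, fun v hv => ?_⟩
  rw [smul_eq_add_cm]
  congr 1
  rcases zmod_cases (f y v) with h4 | h4
  · rw [h4, zero_smul, h3 v hv h4]
  · rw [h4, one_smul, ← h2]
    have h5 := h3 (u + v) (add_mem hu hv) (by rw [map_add, hu1, h4, one_add_one])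
    rw [cm_add] at h5
    exact (eq_of_add h5).symm

/-- two vectors of the block outside `E_y` are conjugate -/
theorem conj_of {x y u u' : V} (hx : x ∈ Om) (hy : y ∈ Om) (hu : u ∈ FF BB x) (hu1 : f y u = 1)
    (hu' : u' ∈ FF BB x) (hu1' : f y u' = 1) : ∃ g : Y, BB (g • x) = BB x ∧ g • u = u' := by
  obtain ⟨B, hB⟩ := c.bb_ne y hy
  obtain ⟨b, -, hst, hb⟩ := c.exists_c hx hy hu hu1 hB (add_mem hu hu')
    (by rw [map_add, hu1, hu1', one_add_one])
  refine ⟨b, hst, ?_⟩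
  rw [hb u hu, hu1, one_smul, ← add_assoc, add_self, zero_add]

/-- (2): the normaliser of the block is transitive on the block -/
theorem conj_all {x u : V} (hx : x ∈ Om) (hu : u ∈ FF BB x) (hu0 : u ≠ 0) :
    ∃ g : Y, BB (g • x) = BB x ∧ g • x = u := by
  obtain ⟨y, hy, h1⟩ := c.sep x (c.ne x hx)
  obtain ⟨y', hy', h2⟩ := c.sep u hu0
  have hxx := c.self_mem hx
  rcases zmod_cases (f y u) with h3 | h3
  · rcases zmod_cases (f y' x) with h4 | h4
    · obtain ⟨g, hg, hgx⟩ := c.conj_of hx hy hxx h1 (add_mem hxx hu) (by rw [map_add, h1, h3, add_zero])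
      obtain ⟨k, hk, hkx⟩ := c.conj_of hx hy' (add_mem hxx hu) (by rw [map_add, h2, h4, zero_add]) hu h2
      exact ⟨k * g, c.st_mul hx hk hg, by rw [mul_smul, hgx, hkx]⟩
    · exact c.conj_of hx hy' hxx h4 hu h2
  · exact c.conj_of hx hy hxx h1 hu h3

theorem conj_two {x u u' : V} (hx : x ∈ Om) (hu : u ∈ FF BB x) (hu0 : u ≠ 0) (hu' : u' ∈ FF BB x)
    (hu0' : u' ≠ 0) : ∃ g : Y, BB (g • x) = BB x ∧ g • u = u' := by
  obtain ⟨g, hg, hgx⟩ := c.conj_all hx hu hu0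
  obtain ⟨k, hk, hkx⟩ := c.conj_all hx hu' hu0'
  refine ⟨k * g⁻¹, c.st_mul hx hk (c.st_inv hx hg), ?_⟩
  rw [← hgx, mul_smul, inv_smul_smul, hkx]

theorem mem_Om {x u : V} (hx : x ∈ Om) (hu : u ∈ FF BB x) (hu0 : u ≠ 0) : u ∈ Om := by
  obtain ⟨g, -, rfl⟩ := c.conj_all hx hu hu0
  exact c.smul g x hx

end Cfg

/-- `⟨BB x⟩` -/
def WW (BB : V → Set (Subgroup Y)) (x : V) : Subgroup Y := closure {b | ∃ B ∈ BB x, b ∈ B}

/-- `A_F = Ω₁(Z⟨BB x⟩)` -/
def AA (BB : V → Set (Subgroup Y)) (x : V) : Subgroup Y where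
  carrier := {a | a ∈ WW BB x ∧ (∀ b ∈ WW BB x, a * b = b * a) ∧ a * a = 1}
  one_mem' := ⟨one_mem _, fun b _ => by rw [one_mul, mul_one], one_mul 1⟩
  mul_mem' := by
    rintro a a' ⟨h1, h2, h3⟩ ⟨h1', h2', h3'⟩
    refine ⟨mul_mem h1 h1', fun b hb => ?_, ?_⟩
    · rw [mul_assoc, h2' b hb, ← mul_assoc, h2 b hb, mul_assoc]
    · rw [mul_assoc, ← mul_assoc a' a a', h2' a h1, mul_assoc a a' a', h3', mul_one, h3]
  inv_mem' := by
    rintro a ⟨h1, h2, h3⟩
    have h4 : a⁻¹ = a := inv_eq_of_mul_eq_one_left h3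
    rw [h4]
    exact ⟨h1, h2, h3⟩

theorem mem_AA {BB : V → Set (Subgroup Y)} {x : V} {a : Y} : a ∈ AA BB x ↔
    a ∈ WW BB x ∧ (∀ b ∈ WW BB x, a * b = b * a) ∧ a * a = 1 := Iff.rfl

theorem B_le {BB : V → Set (Subgroup Y)} {x : V} {B : Subgroup Y} (hB : B ∈ BB x) : B ≤ WW BB x :=
  fun b hb => subset_closure ⟨B, hB, hb⟩

namespace Cfg

variable {Om : Set V} {f : V → Du V} {Q : V → Subgroup Y} {BB : V → Set (Subgroup Y)}
  (c : Cfg Om f Q BB)
include c

theorem W_le {x : V} (hx : x ∈ Om) : WW BB x ≤ Q x := by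
  rw [WW, closure_le]
  rintro b ⟨B, hB, hb⟩
  exact c.bb_le x hx B hB hb

theorem W_fix {x : V} {g : Y} (hg : g ∈ WW BB x) {v : V} (hv : v ∈ FF BB x) : g • v = v := by
  have h1 : WW BB x ≤ MulAction.stabilizer Y v := by
    rw [WW, closure_le]
    rintro b ⟨B, hB, hb⟩
    exact hv B hB b hb
  exact h1 hg

theorem W_st {x : V} (hx : x ∈ Om) {g : Y} (hg : g ∈ WW BB x) : BB (g • x) = BB x := by
  rw [c.W_fix hg (c.self_mem hx)]

/-- the normaliser of the block normalises `A_F` -/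
theorem AA_conj {x : V} (hx : x ∈ Om) {g : Y} (hg : BB (g • x) = BB x) {a : Y} (ha : a ∈ AA BB x) :
    g * a * g⁻¹ ∈ AA BB x := by
  have key : ∀ g : Y, BB (g • x) = BB x → ∀ w ∈ WW BB x, g * w * g⁻¹ ∈ WW BB x := by
    intro g hg w hw
    have h1 : WW BB x ≤ (WW BB x).comap (MulAut.conj g).toMonoidHom := by
      conv_lhs => rw [WW]
      rw [closure_le]
      rintro b ⟨B, hB, hb⟩
      exact B_le (c.st_bb hx hg hB) ⟨_, hb, rfl⟩
    exact h1 hw
  obtain ⟨h1, h2, h3⟩ := ha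
  refine ⟨key g hg a h1, fun b hb => ?_, ?_⟩
  · have h4 := h2 _ (key g⁻¹ (c.st_inv hx hg) b hb)
    rw [inv_inv] at h4
    have h5 : g * a * g⁻¹ * b = g * (a * (g⁻¹ * b * g)) * g⁻¹ := by group
    rw [h5, h4]
    group
  · have h5 : g * a * g⁻¹ * (g * a * g⁻¹) = g * (a * a) * g⁻¹ := by group
    rw [h5, h3, mul_one, mul_inv_cancel]

/-- `[E_x, a] ≤ F_x` for `a ∈ A_F` -/
theorem IA {x : V} (hx : x ∈ Om) {a : Y} (ha : a ∈ AA BB x) {e : V} (he : f x e = 0) :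
    cm a e ∈ FF BB x := by
  intro B hB
  exact (c.bb x hx B hB).t1 (c.f_ne x hx) (fun b hb => ha.2.1 b (B_le hB hb))
    (c.st_f hx (c.W_st hx ha.1)) he

/-- `A_F` acts additively on `E_x` -/
theorem AA_mul {x : V} (hx : x ∈ Om) {a a' : Y} (ha : a ∈ AA BB x) (ha' : a' ∈ AA BB x) {e : V}
    (he : f x e = 0) : cm (a * a') e = cm a e + cm a' e := by
  rw [cm_mul, cm_eq_zero.2 (c.W_fix ha.1 (c.IA hx ha' he)), add_zero]

/-- `A_F ∩ B ≠ 1` -/
theorem exists_AA [Finite Y] {x : V} (hx : x ∈ Om) {B : Subgroup Y} (hB : B ∈ BB x) :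
    ∃ a ∈ B, a ∈ AA BB x ∧ a ≠ 1 := by
  have hne : ∃ n ∈ B, n ∉ (⊥ : Subgroup Y) := by
    by_contra hc
    push Not at hc
    exact (c.bb x hx B hB).ne ((eq_bot_iff_forall B).2 fun x hx => mem_bot.1 (hc x hx))
  obtain ⟨n, hn, hn1, hn2⟩ := GTwoFour.Tools.exists_fixed_mod (M := ⊥)
    ((c.q_two x hx).to_le (c.W_le hx)) (B_le hB)
    (fun y hy n hn => c.bb_norm x hx B hB y (c.W_le hx hy) n hn)
    (fun y _ m hm => by
      rw [mem_bot] at hm ⊢
      rw [hm, mul_one, mul_inv_cancel]) hne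
  refine ⟨n, hn, ⟨B_le hB hn, fun q hq => ?_, (c.bb x hx B hB).sq n hn⟩, fun h0 => hn1 (mem_bot.2 h0)⟩
  have h3 := hn2 q hq
  rw [mem_bot, commutatorElement_eq_one_iff_mul_comm] at h3
  exact h3.symm

/-- `a ≠ 1` acts nontrivially on `E_x` -/
theorem exists_e {x : V} {a : Y} (ha1 : a ≠ 1) : ∃ e : V, f x e = 0 ∧ cm a e ≠ 0 := by
  by_contra hc
  push Not at hc
  exact ha1 (eq_one_of_hyper c.faith c.nt (φ := f x) hc)

theorem cm_conj_eq {g a : Y} (v : V) : cm (g * a * g⁻¹) (g • v) = g • cm a v := (smul_cm_conj g a v).symm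

/-- every nonzero vector of the block is a commutator with some `a ∈ A_F` -/
theorem exists_IA [Finite Y] {x u : V} (hx : x ∈ Om) (hu : u ∈ FF BB x) (hu0 : u ≠ 0) :
    ∃ a ∈ AA BB x, ∃ e : V, f x e = 0 ∧ cm a e = u := by
  obtain ⟨B, hB⟩ := c.bb_ne x hx
  obtain ⟨a, -, ha, ha1⟩ := c.exists_AA hx hB
  obtain ⟨e, he, hae⟩ := c.exists_e (x := x) ha1
  obtain ⟨g, hg, hgu⟩ := c.conj_two hx (c.IA hx ha he) hae hu hu0
  exact ⟨g * a * g⁻¹, c.AA_conj hx hg ha, g • e, by rw [c.st_f hx hg, he], by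
    rw [c.cm_conj_eq, hgu]⟩

/-! ### Cardinalities -/

theorem card_FF {x y : V} (hx : x ∈ Om) (hy : y ∈ Om) : Nat.card (FF BB x) = Nat.card (FF BB y) := by
  obtain ⟨g, rfl⟩ := c.trans x hx y hy
  refine Nat.card_congr ⟨fun v => ⟨g • (v : V), c.smul_FF hx g v.2⟩,
    fun v => ⟨g⁻¹ • (v : V), c.inv_smul_FF hx g v.2⟩, fun v => Subtype.ext (inv_smul_smul _ _),
    fun v => Subtype.ext (smul_inv_smul _ _)⟩

theorem card_H [Finite V] {x y u : V} (hu : u ∈ FF BB x) (hu1 : f y u = 1) :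
    2 * Nat.card {v : V // v ∈ FF BB x ∧ f y v = 0} = Nat.card (FF BB x) := by
  have e : {v : V // v ∈ FF BB x ∧ f y v = 0} × ZMod 2 ≃ FF BB x :=
    { toFun := fun p => ⟨(p.1 : V) + p.2 • u, add_mem p.1.2.1 (by
        rcases zmod_cases p.2 with h1 | h1
        · rw [h1, zero_smul]; exact zero_mem _
        · rw [h1, one_smul]; exact hu)⟩
      invFun := fun v => (⟨(v : V) + f y v • u, add_mem v.2 (by
        rcases zmod_cases (f y v) with h1 | h1
        · rw [h1, zero_smul]; exact zero_mem _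
        · rw [h1, one_smul]; exact hu), by
          rw [map_add, map_smul, hu1, smul_eq_mul, mul_one, Transv.add_self]⟩, f y v)
      left_inv := by
        rintro ⟨⟨v, hv, hv0⟩, t⟩
        have h1 : f y (v + t • u) = t := by
          rw [map_add, hv0, map_smul, hu1, smul_eq_mul, mul_one, zero_add]
        refine Prod.ext (Subtype.ext ?_) h1
        change v + t • u + f y (v + t • u) • u = v
        rw [h1, add_add_self]
      right_inv := by
        rintro ⟨v, hv⟩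
        exact Subtype.ext (add_add_self v (f y v • u)) }
  rw [← Nat.card_congr e, Nat.card_prod, Nat.card_zmod, mul_comm]

end Cfg

/-- all blocks have more than one line -/
def Big (Om : Set V) (BB : V → Set (Subgroup Y)) : Prop := ∀ x ∈ Om, ∃ u ∈ FF BB x, u ≠ 0 ∧ u ≠ x

/-- non-neighbours -/
structure NN (f : V → Du V) (BB : V → Set (Subgroup Y)) (x y : V) : Prop where
  left : ∃ u ∈ FF BB x, f y u = 1
  right : ∃ u ∈ FF BB y, f x u = 1

theorem NN.symm {f : V → Du V} {BB : V → Set (Subgroup Y)} {x y : V} (h : NN f BB x y) : NN f BB y x :=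
  ⟨h.right, h.left⟩

theorem cm_zsmul (a : Y) (t : ZMod 2) (v : V) : cm a (t • v) = t • cm a v := by
  rcases zmod_cases t with h | h
  · rw [h, zero_smul, zero_smul, cm_zero]
  · rw [h, one_smul, one_smul]

namespace Cfg

variable {Om : Set V} {f : V → Du V} {Q : V → Subgroup Y} {BB : V → Set (Subgroup Y)}
  (c : Cfg Om f Q BB)
include c

theorem exists_w (hbig : Big Om BB) {x y : V} (hx : x ∈ Om) : ∃ w ∈ FF BB x, f y w = 0 ∧ w ≠ 0 := by
  obtain ⟨u, hu, hu0, hux⟩ := hbig x hx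
  have hxx := c.self_mem hx
  rcases zmod_cases (f y x) with h1 | h1
  · exact ⟨x, hxx, h1, c.ne x hx⟩
  · rcases zmod_cases (f y u) with h2 | h2
    · exact ⟨u, hu, h2, hu0⟩
    · exact ⟨u + x, add_mem hu hxx, by rw [map_add, h1, h2, one_add_one], fun h3 => hux (eq_of_add h3)⟩

/-- **(4)** -/
theorem four [Finite Y] [Finite V] (hbig : Big Om BB) {x y : V} (hx : x ∈ Om) (hy : y ∈ Om)
    (hle : ∀ v ∈ FF BB y, f x v = 0) : ∀ v ∈ FF BB x, f y v = 0 := by
  intro u hu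
  refine eq_zero_of_ne fun hu1 => ?_
  have hu0 : u ≠ 0 := by
    rintro rfl
    rw [map_zero] at hu1
    exact zero_ne_one' hu1
  obtain ⟨a, ha, e, he, hae⟩ := c.exists_IA hx hu hu0
  -- `F_x ∩ F_y = 0`
  have hcap : ∀ v ∈ FF BB x, v ∈ FF BB y → v = 0 := by
    intro v hvx hvy
    by_contra hv0
    have h1 := c.f_eq_of_BB hx hy (c.BB_eq hx hy hv0 hvx hvy)
    rw [← h1, c.FF_le hx hu] at hu1
    exact zero_ne_one' hu1
  -- `a` moves all vectors of the block of `y`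
  have hmove : ∀ v ∈ FF BB y, cm a v = 0 → v = 0 := by
    intro v hv hav
    by_contra hv0
    have h1 := c.st_cm hy (c.st_fix hy hv0 hv (cm_eq_zero.1 hav)) e
    rw [hae, hu1] at h1
    exact one_ne h1
  -- surjectivity
  have hsurj : ∀ u' ∈ FF BB x, ∃ v ∈ FF BB y, cm a v = u' := by
    let F : FF BB y → FF BB x := fun v => ⟨cm a (v : V), c.IA hx ha (hle v v.2)⟩
    have hF : Function.Injective F := by
      intro v v' h1
      have h2 : cm a (v : V) = cm a (v' : V) := congrArg Subtype.val h1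
      have h3 : cm a ((v : V) + v') = 0 := by rw [cm_add, h2, Transv.add_self]
      exact Subtype.ext (eq_of_add (hmove _ (add_mem v.2 v'.2) h3))
    have hb := (Nat.bijective_iff_injective_and_card F).mpr ⟨hF, c.card_FF hy hx⟩
    intro u' hu'
    obtain ⟨v, hv⟩ := hb.2 ⟨u', hu'⟩
    exact ⟨v, v.2, congrArg Subtype.val hv⟩
  obtain ⟨w, hw, hw0, hwne⟩ := c.exists_w hbig (y := y) hx
  obtain ⟨B, hB⟩ := c.bb_ne y hy
  obtain ⟨b, hb, hst, hbv⟩ := c.exists_c hx hy hu hu1 hB hw hw0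
  have hb2 : ∀ v ∈ FF BB y, b • v = v := fun v hv => c.W_fix (B_le hB hb) hv
  have ha2 := c.AA_conj hx hst ha
  have h1 : ∀ v ∈ FF BB y, cm (a * (b * a * b⁻¹)) v = cm a v + b • cm a v := by
    intro v hv
    rw [c.AA_mul hx ha ha2 (hle v hv)]
    congr 1
    have h2 := c.cm_conj_eq (g := b) (a := a) v
    rwa [hb2 v hv] at h2
  obtain ⟨v1, hv1, h3⟩ := hsurj u hu
  obtain ⟨v2, hv2, h4⟩ := hsurj w hw
  have h5 := h1 v1 hv1
  have h6 := h1 v2 hv2
  rw [h3, hbv u hu, hu1, one_smul, ← add_assoc, Transv.add_self, zero_add] at h5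
  rw [h4, hbv w hw, hw0, zero_smul, add_zero, Transv.add_self] at h6
  have h7 : v2 ≠ 0 := by
    rintro rfl
    rw [cm_zero] at h4
    exact hwne h4.symm
  have h8 := c.st_mem hy (c.st_fix hy h7 hv2 (cm_eq_zero.1 h6)) hv1
  have h9 : w ∈ FF BB y := by
    rw [← h5]
    exact add_mem h8 hv1
  exact hwne (hcap w hw h9)

theorem nn_of [Finite Y] [Finite V] (hbig : Big Om BB) {x y u : V} (hx : x ∈ Om) (hy : y ∈ Om)
    (hu : u ∈ FF BB x) (hu1 : f y u = 1) : NN f BB x y := by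
  refine ⟨⟨u, hu, hu1⟩, ?_⟩
  by_contra hc
  push Not at hc
  rw [c.four hbig hx hy (fun v hv => eq_zero_of_ne (hc v hv)) u hu] at hu1
  exact zero_ne_one' hu1

theorem exists_NN [Finite Y] [Finite V] (hbig : Big Om BB) {x : V} (hx : x ∈ Om) :
    ∃ y ∈ Om, NN f BB x y := by
  obtain ⟨y, hy, h1⟩ := c.sep x (c.ne x hx)
  exact ⟨y, hy, c.nn_of hbig hx hy (c.self_mem hx) h1⟩

/-- **(5a)** -/
theorem five_a {x y : V} (hx : x ∈ Om) (hy : y ∈ Om) (hn : NN f BB x y) {a : Y} (ha : a ∈ AA BB y) {w : V}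
    (hw : w ∈ FF BB x) (hw0 : f y w = 0) : cm a w ∈ FF BB y ∧ f x (cm a w) = 0 := by
  refine ⟨c.IA hy ha hw0, ?_⟩
  obtain ⟨u, hu, hu1⟩ := hn.left
  obtain ⟨B, hB⟩ := c.bb_ne y hy
  obtain ⟨b, hb, hst, hbv⟩ := c.exists_c hx hy hu hu1 hB hw hw0
  have hab : a * b = b * a := ha.2.1 b (B_le hB hb)
  have hax := c.smul a x hx
  have h1 : BB (b • a • x) = BB (a • x) := by
    refine c.st_of hax (c.ne _ hax) (c.self_mem hax) ?_
    rw [← mul_smul, ← hab, mul_smul]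
    exact c.smul_FF hx a (c.st_mem hx hst (c.self_mem hx))
  have h2 := c.st_f hax h1 u
  rw [hbv u hu, hu1, one_smul, map_add, add_eq_left, c.f_smul a x hx, dua_apply,
    inv_eq_of_mul_eq_one_left ha.2.2] at h2
  rw [cm, map_add, h2, c.FF_le hx hw, add_zero]

theorem surj_H [Finite Y] [Finite V] {x y : V} (hx : x ∈ Om) (hy : y ∈ Om) (hn : NN f BB x y) {a : Y}
    (ha : a ∈ AA BB x) (hmove : ∀ v ∈ FF BB y, f x v = 0 → cm a v = 0 → v = 0) :
    ∀ w ∈ FF BB x, f y w = 0 → ∃ v ∈ FF BB y, f x v = 0 ∧ cm a v = w := by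
  let F : {v : V // v ∈ FF BB y ∧ f x v = 0} → {v : V // v ∈ FF BB x ∧ f y v = 0} := fun v =>
    ⟨cm a (v : V), c.five_a hy hx hn.symm ha v.2.1 v.2.2⟩
  have hF : Function.Injective F := by
    intro v v' h1
    have h2 : cm a (v : V) = cm a (v' : V) := congrArg Subtype.val h1
    have h3 : cm a ((v : V) + v') = 0 := by rw [cm_add, h2, Transv.add_self]
    exact Subtype.ext (eq_of_add (hmove _ (add_mem v.2.1 v'.2.1)
      (by rw [map_add, v.2.2, v'.2.2, add_zero]) h3))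
  have hc : Nat.card {v : V // v ∈ FF BB y ∧ f x v = 0} = Nat.card {v : V // v ∈ FF BB x ∧ f y v = 0} := by
    obtain ⟨u, hu, hu1⟩ := hn.left
    obtain ⟨u', hu', hu1'⟩ := hn.right
    have h1 := c.card_H hu hu1
    have h2 := c.card_H hu' hu1'
    have h3 := c.card_FF hx hy
    omega
  have hb := (Nat.bijective_iff_injective_and_card F).mpr ⟨hF, hc⟩
  intro w hw hw0
  obtain ⟨v, hv⟩ := hb.2 ⟨w, hw, hw0⟩
  exact ⟨v, v.2.1, v.2.2, congrArg Subtype.val hv⟩

/-- **(5b)**: `[E_x, a] = F_x` for `1 ≠ a ∈ A_F` -/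
theorem five_I [Finite Y] [Finite V] (hbig : Big Om BB) {x : V} (hx : x ∈ Om) {a : Y} (ha : a ∈ AA BB x)
    (ha1 : a ≠ 1) : ∀ u ∈ FF BB x, ∃ e : V, f x e = 0 ∧ cm a e = u := by
  by_contra hc
  push Not at hc
  obtain ⟨u, hu, hne⟩ := hc
  obtain ⟨e, he, hae⟩ := c.exists_e (x := x) ha1
  obtain ⟨y, hy, h1⟩ := c.sep _ hae
  have hn := c.nn_of hbig hx hy (c.IA hx ha he) h1
  have hmove : ∀ v ∈ FF BB y, f x v = 0 → cm a v = 0 → v = 0 := by
    intro v hv _ hav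
    by_contra hv0
    have h2 := c.st_cm hy (c.st_fix hy hv0 hv (cm_eq_zero.1 hav)) e
    rw [h1] at h2
    exact one_ne h2
  have hsurj := c.surj_H hx hy hn ha hmove
  rcases zmod_cases (f y u) with h2 | h2
  · obtain ⟨v, -, hv0, hv⟩ := hsurj u hu h2
    exact hne v hv0 hv
  · obtain ⟨v, -, hv0, hv⟩ := hsurj (u + cm a e) (add_mem hu (c.IA hx ha he))
      (by rw [map_add, h1, h2, one_add_one])
    refine hne (v + e) (by rw [map_add, hv0, he, add_zero]) ?_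
    rw [cm_add, hv, add_add_self]

/-- **(5b)** -/
theorem five_b [Finite Y] [Finite V] (hbig : Big Om BB) {x y : V} (hx : x ∈ Om) (hy : y ∈ Om)
    (hn : NN f BB x y) {a : Y} (ha : a ∈ AA BB x) (ha1 : a ≠ 1) {v : V} (hv : v ∈ FF BB y)
    (hav : cm a v = 0) : v = 0 := by
  by_contra hv0
  obtain ⟨u, hu, hu1⟩ := hn.left
  obtain ⟨e, -, hae⟩ := c.five_I hbig hx ha ha1 u hu
  have h2 := c.st_cm hy (c.st_fix hy hv0 hv (cm_eq_zero.1 hav)) e
  rw [hae, hu1] at h2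
  exact one_ne h2

/-- **(5b)**: the transvections `c_w` commute with `A_F` -/
theorem five_comm [Finite Y] [Finite V] (hbig : Big Om BB) {x y : V} (hx : x ∈ Om) (hy : y ∈ Om)
    (hn : NN f BB x y) {B : Subgroup Y} (hB : B ∈ BB y) {b : Y} (hb : b ∈ B) (hst : BB (b • x) = BB x)
    (hfix : ∀ v ∈ FF BB x, f y v = 0 → b • v = v) {a : Y} (ha : a ∈ AA BB x) : a * b = b * a := by
  obtain ⟨v, hv, hv0, hvne⟩ := c.exists_w hbig (y := x) hy
  have ha2 := c.AA_conj hx hst ha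
  have h1 := c.cm_conj_eq (g := b) (a := a) v
  obtain ⟨h2, h3⟩ := c.five_a hy hx hn.symm ha hv hv0
  rw [c.W_fix (B_le hB hb) hv, hfix _ h2 h3] at h1
  have h4 : cm (a * (b * a * b⁻¹)) v = 0 := by
    rw [c.AA_mul hx ha ha2 hv0, h1, Transv.add_self]
  have h5 : a * (b * a * b⁻¹) = 1 := by
    by_contra h6
    exact hvne (c.five_b hbig hx hy hn (mul_mem ha ha2) h6 hv h4)
  have h6 : b * a * b⁻¹ = a := by
    rw [← inv_eq_of_mul_eq_one_left ha.2.2]
    rw [inv_eq_of_mul_eq_one_left ha.2.2]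
    have h7 := eq_inv_of_mul_eq_one_right h5
    rwa [inv_eq_of_mul_eq_one_left ha.2.2] at h7
  calc a * b = b * a * b⁻¹ * b := by rw [h6]
    _ = b * a := by group

/-- `[[t, a], c_w] ∈ {0, w}` -/
theorem dec {x y : V} (hx : x ∈ Om) {x' : V} (hx' : f x x' = 1) {a : Y} (ha : a ∈ AA BB x) {b : Y}
    (hab : a * b = b * a) (hbx : b • x' = x') {w : V} (hb : ∀ v ∈ FF BB x, b • v = v + f y v • w) (t : V) :
    cm b (cm a t) = f y (cm a (t + f x t • x')) • w := by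
  have h1 : f x (t + f x t • x') = 0 := by
    rw [map_add, map_smul, hx', smul_eq_mul, mul_one, Transv.add_self]
  have h2 : t = (t + f x t • x') + f x t • x' := (add_add_self _ _).symm
  have h3 : cm b (cm a x') = 0 := by
    rw [← cm_comm hab, cm_eq_zero.2 hbx, cm_zero]
  conv_lhs => rw [h2]
  rw [cm_add, cm_zsmul, cm_add, cm_zsmul, h3, smul_zero, add_zero]
  rw [cm_def b, hb _ (c.IA hx ha h1)]
  rw [add_comm (cm a _) _, add_add_self]


/-- **(5c)** -/
theorem five_c [Finite Y] [Finite V] (hbig : Big Om BB) {x y : V} (hx : x ∈ Om) (hy : y ∈ Om)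
    (hn : NN f BB x y) {a a' : Y} (ha : a ∈ AA BB x) (ha1 : a ≠ 1) (ha' : a' ∈ AA BB y) (ha1' : a' ≠ 1)
    {w : V} (hw : w ∈ FF BB x) (hw0 : f y w = 0) : cm a (cm a' w) = w := by
  by_cases hwne : w = 0
  · rw [hwne, cm_zero, cm_zero]
  obtain ⟨u, hu, hu1⟩ := hn.left
  obtain ⟨x', hx', hx1⟩ := hn.right
  obtain ⟨B, hB⟩ := c.bb_ne y hy
  obtain ⟨b, hb, hst, hbv⟩ := c.exists_c hx hy hu hu1 hB hw hw0
  have hab := c.five_comm hbig hx hy hn hB hb hst
    (fun v hv hv0 => by rw [hbv v hv, hv0, zero_smul, add_zero]) ha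
  have hab' : a' * b = b * a' := ha'.2.1 b (B_le hB hb)
  have h1 := c.dec hx hx1 ha hab (c.W_fix (B_le hB hb) hx') hbv (cm a' u)
  rw [← cm_comm hab, ← cm_comm hab', cm_def b u, hbv u hu, hu1, one_smul, add_comm u w,
    add_add_self] at h1
  rcases zmod_cases (f y (cm a (cm a' u + f x (cm a' u) • x'))) with h2 | h2
  · rw [h2, zero_smul] at h1
    obtain ⟨h3, -⟩ := c.five_a hx hy hn ha' hw hw0
    exact absurd (c.five_b hbig hy hx hn.symm ha' ha1' hw (c.five_b hbig hx hy hn ha ha1 h3 h1)) hwne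
  · rwa [h2, one_smul] at h1

/-- **(5c)**: `|A_F| = 2` -/
theorem AA_eq [Finite Y] [Finite V] (hbig : Big Om BB) {x : V} (hx : x ∈ Om) {a a1 : Y}
    (ha : a ∈ AA BB x) (hne : a ≠ 1) (ha1 : a1 ∈ AA BB x) (hne1 : a1 ≠ 1) : a = a1 := by
  obtain ⟨y, hy, hn⟩ := c.exists_NN hbig hx
  obtain ⟨B, hB⟩ := c.bb_ne y hy
  obtain ⟨a', -, ha', hne'⟩ := c.exists_AA hy hB
  obtain ⟨v, hv, hv0, hvne⟩ := c.exists_w hbig (y := x) hy
  have h1 := c.five_c hbig hy hx hn.symm ha' hne' ha hne hv hv0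
  have h2 := c.five_c hbig hy hx hn.symm ha' hne' ha1 hne1 hv hv0
  have h3 : cm a' (cm a v + cm a1 v) = 0 := by rw [cm_add, h1, h2, Transv.add_self]
  have h4 := c.five_b hbig hy hx hn.symm ha' hne' (add_mem (c.IA hx ha hv0) (c.IA hx ha1 hv0)) h3
  rw [← c.AA_mul hx ha ha1 hv0] at h4
  have h5 : a * a1 = 1 := by
    by_contra h6
    exact hvne (c.five_b hbig hx hy hn (mul_mem ha ha1) h6 hv h4)
  rw [eq_inv_of_mul_eq_one_left h5, inv_eq_of_mul_eq_one_left ha1.2.2]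

/-- **(6)** -/
theorem false_of_big [Finite Y] [Finite V] (hbig : Big Om BB) {x : V} (hx : x ∈ Om) : False := by
  classical
  obtain ⟨y, hy, hn⟩ := c.exists_NN hbig hx
  obtain ⟨u, hu, hu1⟩ := hn.left
  obtain ⟨x', hx', hx1⟩ := hn.right
  obtain ⟨B, hB⟩ := c.bb_ne y hy
  obtain ⟨B0, hB0⟩ := c.bb_ne x hx
  obtain ⟨a, -, ha, ha1⟩ := c.exists_AA hx hB0
  obtain ⟨a', haB', ha', ha1'⟩ := c.exists_AA hy hB
  obtain ⟨w, hw, hw0, hwne⟩ := c.exists_w hbig (y := y) hx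
  obtain ⟨b1, hb1, hst1, hbv1⟩ := c.exists_c hx hy hu hu1 hB hw hw0
  have hN := c.bb y hy B hB
  have hwe : w = cm b1 u := by
    rw [cm_def, hbv1 u hu, hu1, one_smul, add_comm u w, add_add_self]
  have hab1 := c.five_comm hbig hx hy hn hB hb1 hst1
    (fun v hv hv0 => by rw [hbv1 v hv, hv0, zero_smul, add_zero]) ha
  -- `[[w, b], a] ∈ {0, w}`
  have hpsi : ∀ b ∈ B, cm a (cm b w) = 0 ∨ cm a (cm b w) = w := by
    intro b hb
    have h1 := c.dec hx hx1 ha hab1 (c.W_fix (B_le hB hb1) hx') hbv1 (b • u)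
    have h2 : cm b1 (cm a (b • u)) = cm a (cm b w) := by
      rw [← cm_comm hab1, ← smul_cm (hN.comm b hb b1 hb1), ← hwe, cm_def b w, cm_add,
        cm_eq_zero.2 (c.W_fix ha.1 hw), add_zero]
    rw [h2] at h1
    rcases zmod_cases (f y (cm a (b • u + f x (b • u) • x'))) with h3 | h3
    · left
      rw [h1, h3, zero_smul]
    · right
      rw [h1, h3, one_smul]
  have hadd : ∀ b ∈ B, ∀ b' ∈ B, cm (b * b') w = cm b w + cm b' w := by
    intro b hb b' hb'
    rw [cm_mul, cm_eq_zero.2 (hN.ed w hw0 b' hb' b hb), add_zero]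
  have hc1 := card_hom (B := B) (fun b => cm b w) hadd
  -- the kernel
  have hker : Nat.card {b : Y // b ∈ B ∧ cm b w = 0} ≤ Nat.card {v : V // v ∈ FF BB x ∧ f y v = 0} := by
    refine Nat.card_le_card_of_injective (fun b => ⟨cm (b : Y) u, ?_, hN.cm_mem b.2.1 u⟩) ?_
    · exact add_mem (c.st_mem hx (c.st_fix hx hwne hw (cm_eq_zero.1 b.2.2)) hu) hu
    · rintro ⟨b, hb, hbw⟩ ⟨b', hb', hbw'⟩ h1
      have h2 : cm b u = cm b' u := congrArg Subtype.val h1
      have h3 : b * b' = 1 := by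
        refine hN.inj u hu1 _ (mul_mem hb hb') ?_
        rw [cm_mul, h2, Transv.add_self, zero_add]
        exact hN.ed _ (hN.cm_mem hb' u) b hb
      refine Subtype.ext ?_
      change b = b'
      rw [eq_inv_of_mul_eq_one_left h3, inv_eq_of_mul_eq_one_left (hN.sq b' hb')]
  -- the set `D₁`
  let D1 : Type _ := {d : V // (∃ b ∈ B, cm b w = d) ∧ cm a d = w}
  have hd0 : cm a (cm a' w) = w := c.five_c hbig hx hy hn ha ha1 ha' ha1' hw hw0
  have hhalf : Nat.card {v : V // ∃ b ∈ B, cm b w = v} ≤ 2 * Nat.card D1 := by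
    have h1 : Nat.card (ZMod 2 × D1) = 2 * Nat.card D1 := by rw [Nat.card_prod, Nat.card_zmod]
    rw [← h1]
    have hmem : ∀ v v' : V, (∃ b ∈ B, cm b w = v) → (∃ b ∈ B, cm b w = v') → ∃ b ∈ B, cm b w = v + v' := by
      rintro _ _ ⟨b, hb, rfl⟩ ⟨b', hb', rfl⟩
      exact ⟨b * b', mul_mem hb hb', hadd b hb b' hb'⟩
    have hmem0 : ∀ t : ZMod 2, ∃ b ∈ B, cm b w = t • cm a' w := by
      intro t
      rcases zmod_cases t with h2 | h2
      · exact ⟨1, one_mem _, by rw [h2, zero_smul, cm_one]⟩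
      · exact ⟨a', haB', by rw [h2, one_smul]⟩
    refine Nat.card_le_card_of_surjective
      (fun p : ZMod 2 × D1 => ⟨(p.2 : V) + p.1 • cm a' w, hmem _ _ p.2.2.1 (hmem0 p.1)⟩) ?_
    rintro ⟨v, b, hb, rfl⟩
    rcases hpsi b hb with h2 | h2
    · refine ⟨(1, ⟨cm b w + cm a' w, hmem _ _ ⟨b, hb, rfl⟩ ⟨a', haB', rfl⟩, ?_⟩), ?_⟩
      · rw [cm_add, h2, hd0, zero_add]
      · refine Subtype.ext ?_
        change cm b w + cm a' w + (1 : ZMod 2) • cm a' w = cm b w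
        rw [one_smul, add_add_self]
    · refine ⟨(0, ⟨cm b w, ⟨b, hb, rfl⟩, h2⟩), ?_⟩
      refine Subtype.ext ?_
      change cm b w + (0 : ZMod 2) • cm a' w = cm b w
      rw [zero_smul, add_zero]
  -- the points of `D₁`
  have hom : ∀ d : D1, (d : V) ∈ Om := by
    rintro ⟨d, ⟨b, hb, rfl⟩, hd⟩
    have h1 : a • cm b w = b • w := by
      rw [smul_eq_add_cm a, hd, smul_eq_add_cm b w, add_comm]
    have h2 : cm b w = a⁻¹ • b • w := by rw [← h1, inv_smul_smul]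
    change cm b w ∈ Om
    rw [h2]
    exact c.smul _ _ (c.smul _ _ (c.mem_Om hx hw hwne))
  have hfix : ∀ d : D1, Fx B (d : V) := by
    rintro ⟨d, ⟨b, hb, rfl⟩, hd⟩
    exact hN.ed w hw0 b hb
  have hf : ∀ d : D1, f (d : V) = f y := fun d => c.star y hy B hB _ (hom d) (hfix d)
  have hBd : ∀ d : D1, B ∈ BB (d : V) := fun d =>
    c.hM _ (hom d) _ (c.ne _ (hom d)) (c.self_mem (hom d)) y hy B hB (hfix d)
  have hnn : ∀ d : D1, NN f BB x (d : V) := fun d =>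
    c.nn_of hbig hx (hom d) hu (by rw [hf d, hu1])
  have heq : ∀ d d1 : D1, (d : V) ∈ FF BB (d1 : V) → d = d1 := by
    intro d d1 h1
    refine Subtype.ext (eq_of_add (c.five_b hbig hx (hom d1) (hnn d1) ha ha1
      (add_mem h1 (c.self_mem (hom d1))) ?_))
    rw [cm_add, d.2.2, d1.2.2, Transv.add_self]
  have hex : ∀ d : D1, ∃ g ∈ B, g ∈ AA BB (d : V) ∧ g ≠ 1 := fun d => c.exists_AA (hom d) (hBd d)
  choose g hgB hgA hg1 using hex
  have hginj : ∀ d d1 : D1, g d = g d1 → d = d1 := by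
    intro d d1 h1
    refine heq d d1 ?_
    obtain ⟨e, he, hge⟩ := c.five_I hbig (hom d) (hgA d) (hg1 d) _ (c.self_mem (hom d))
    rw [← hge, h1]
    refine c.IA (hom d1) (hgA d1) ?_
    rwa [hf d1, ← hf d]
  have hperp : ∀ d d1 : D1, cm (g d1) (cm (g d) u) = 0 := by
    intro d d1
    by_cases h0 : d = d1
    · rw [h0, cm_eq_zero]
      exact hN.smul_cm_self (hgB d1) u
    by_contra h1
    apply h0
    have h2 : cm (g d1) (cm (g d) u) ∈ FF BB (d1 : V) :=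
      c.IA (hom d1) (hgA d1) (by rw [hf d1]; exact hN.cm_mem (hgB d) u)
    have h3 : cm (g d1) (cm (g d) u) ∈ FF BB (d : V) := by
      rw [cm_comm (hN.comm _ (hgB d1) _ (hgB d))]
      exact c.IA (hom d) (hgA d) (by rw [hf d]; exact hN.cm_mem (hgB d1) u)
    refine heq d d1 ?_
    rw [← c.FF_eq_of_BB (c.BB_eq (hom d) (hom d1) h1 h3 h2)]
    exact c.self_mem (hom d)
  -- counting
  let d1 : D1 := ⟨cm a' w, ⟨a', haB', rfl⟩, hd0⟩
  have hadd2 : ∀ b ∈ B, ∀ b' ∈ B, cm (g d1) (cm (b * b') u) = cm (g d1) (cm b u) + cm (g d1) (cm b' u) := by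
    intro b hb b' hb'
    rw [cm_mul, cm_add, cm_add, cm_eq_zero.2 (hN.ed _ (hN.cm_mem hb' u) b hb _ (hgB d1)), add_zero]
  have hc2 := card_hom (B := B) (fun b => cm (g d1) (cm b u)) hadd2
  have him : Nat.card (FF BB (d1 : V)) ≤ Nat.card {v : V // ∃ b ∈ B, cm (g d1) (cm b u) = v} := by
    refine Nat.card_le_card_of_injective (fun v => ⟨(v : V), ?_⟩) fun v v' h1 =>
      Subtype.ext (congrArg (fun q : {v : V // ∃ b ∈ B, cm (g d1) (cm b u) = v} => (q : V)) h1)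
    obtain ⟨e, he, hge⟩ := c.five_I hbig (hom d1) (hgA d1) (hg1 d1) _ v.2
    rw [hf d1] at he
    obtain ⟨b, hb, hd⟩ := hN.surj u e hu1 he
    refine ⟨b, hb, ?_⟩
    rw [← hge]
    have h2 : cm (g d1) (cm b u + e) = 0 := cm_eq_zero.2 (hd _ (hgB d1))
    rw [cm_add] at h2
    exact eq_of_add h2
  have hP : Nat.card D1 + 1 ≤ Nat.card {b : Y // b ∈ B ∧ cm (g d1) (cm b u) = 0} := by
    have h1 : Nat.card (Option D1) = Nat.card D1 + 1 := Finite.card_option
    rw [← h1]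
    refine Nat.card_le_card_of_injective (fun o : Option D1 => match o with
      | none => ⟨1, one_mem _, by rw [cm_one, cm_zero]⟩
      | some d => ⟨g d, hgB d, hperp d d1⟩) ?_
    rintro (_ | d) (_ | d') h2
    · rfl
    · exact absurd (congrArg Subtype.val h2).symm (hg1 d')
    · exact absurd (congrArg Subtype.val h2) (hg1 d)
    · exact congrArg some (hginj d d' (congrArg Subtype.val h2))
  have hq := c.card_FF hx (hom d1)
  have hH := c.card_H hu hu1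
  have hpos : 0 < Nat.card (FF BB x) := Nat.card_pos
  rw [← hq] at him
  generalize Nat.card B = n at *
  generalize Nat.card (FF BB x) = q at *
  generalize Nat.card {v : V // v ∈ FF BB x ∧ f y v = 0} = hh at *
  generalize Nat.card D1 = m at *
  generalize Nat.card {v : V // ∃ b ∈ B, cm b w = v} = k at *
  generalize Nat.card {b : Y // b ∈ B ∧ cm b w = 0} = l at *
  generalize Nat.card {b : Y // b ∈ B ∧ cm (g d1) (cm b u) = 0} = r at *
  generalize Nat.card {v : V // ∃ b ∈ B, cm (g d1) (cm b u) = v} = s at *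
  have h1 : n ≤ hh * (2 * m) := hc1 ▸ Nat.mul_le_mul hker hhalf
  have h2 : (m + 1) * q ≤ n := hc2 ▸ Nat.mul_le_mul hP him
  have h3 : hh * (2 * m) = m * q := by rw [← hH]; ring
  nlinarith

/-- **THEOREM 1** of #16497: the blocks are trivial -/
theorem eq_of_mem_FF [Finite Y] [Finite V] {x : V} (hx : x ∈ Om) {v : V} (hv : ∀ B ∈ BB x, Fx B v) :
    v = 0 ∨ v = x := by
  by_contra hc
  push Not at hc
  refine c.false_of_big (fun y hy => ?_) hx
  obtain ⟨g, rfl⟩ := c.trans x hx y hy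
  refine ⟨g • v, c.smul_FF hx g hv, smul_ne hc.1, fun h1 => hc.2 ?_⟩
  rw [← inv_smul_smul g v, h1, inv_smul_smul]

end Cfg

/-! ### The datum of 132 -/

variable {T : Sylow 2 Y} {M : Subgroup Y} {z : V} {f : V → Du V} {Q : V → Subgroup Y}
  {BB : V → Set (Subgroup Y)}

/-- hypothesis (M) of #16497 -/
def HypM (z : V) (BB : V → Set (Subgroup Y)) : Prop :=
  ∀ u : V, u ≠ 0 → (∀ B ∈ BB z, Fx B u) → ∀ y ∈ MulAction.orbit Y z, ∀ B ∈ BB y, Fx B u → B ∈ BB z

theorem Cfg.of_dat [Finite Y] [Finite V] (h : Dat T M z f Q BB) (hM : HypM z BB) :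
    Cfg (MulAction.orbit Y z) f Q BB := by
  have L := loc_of_dat h
  have hz := MulAction.mem_orbit_self (M := Y) z
  exact
    { faith := h.faith
      nt := h.nt
      smul := L.om_smul
      trans := L.trans
      ne := by
        rintro _ ⟨g, rfl⟩
        exact smul_ne h.z_ne
      sep := by
        intro v hv
        by_contra hc
        push Not at hc
        let W : Submodule (ZMod 2) V :=
          { carrier := {v | ∀ x ∈ MulAction.orbit Y z, f x v = 0}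
            zero_mem' := fun x _ => map_zero _
            add_mem' := fun ha hb x hx => by rw [map_add, ha x hx, hb x hx, add_zero]
            smul_mem' := fun t v hv x hx => by rw [map_smul, hv x hx, smul_zero] }
        have hinv : ∀ g : Y, ∀ w ∈ W, g • w ∈ W := by
          intro g w hw x hx
          have h1 := h.f_smul g _ (smul_orbit hx g⁻¹)
          rw [smul_inv_smul] at h1
          rw [h1, dua_apply, inv_smul_smul]
          exact hw _ (smul_orbit hx g⁻¹)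
        have hzW := h.z_mem (W := W) (fun t _ w hw => hinv t w hw)
          (w := v) (fun x hx => eq_zero_of_ne (hc x hx)) hv
        apply h.f_ne
        refine LinearMap.ext fun v => ?_
        refine h.induct (p := fun v => f z v = 0) (map_zero _) ?_ ?_ v
        · rintro _ ⟨g, rfl⟩
          exact hinv g z hzW z hz
        · intro a b ha hb
          rw [map_add, ha, hb, add_zero]
      f_smul := L.f_smul
      f_ne := L.f_ne
      q_two := L.q_two
      q_fix := L.q_fix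
      bb_smul := h.bb_smul
      bb_ne := L.bb_ne
      bb_le := L.bb_le
      bb_norm := by
        rintro _ ⟨g, rfl⟩ B hB a ha b hb
        have h1 := h.bb_smul g⁻¹ (g • z) ⟨g, rfl⟩ B hB
        rw [inv_smul_smul] at h1
        have h2 := h.q_smul g⁻¹ (g • z) ⟨g, rfl⟩ a ha
        rw [inv_smul_smul, inv_inv] at h2
        obtain ⟨b', hb', h3⟩ := h.bb_norm _ h1 _ h2 _ (mem_conj_inv hb)
        have h4 : g⁻¹ * b' * g = g⁻¹ * a * g * (g⁻¹ * b * g) * (g⁻¹ * a * g)⁻¹ := by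
          rw [← h3]
          change g⁻¹ * b' * g = g⁻¹ * b' * g⁻¹⁻¹
          rw [inv_inv]
        have h5 : a * b * a⁻¹ = b' := by
          have h6 : g⁻¹ * b' * g = g⁻¹ * (a * b * a⁻¹) * g := by
            rw [h4]
            group
          exact (mul_left_cancel (mul_right_cancel h6)).symm
        rw [h5]
        exact hb'
      bb := L.bb
      star := L.star
      hM := by
        rintro _ ⟨g, rfl⟩ u hu hux y hy B hB hBu
        have key : ∀ (C : Subgroup Y) (v : V), Fx C v → Fx (C.map (MulAut.conj g⁻¹).toMonoidHom) (g⁻¹ • v) := by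
          rintro C v hv _ ⟨b, hb, rfl⟩
          change (g⁻¹ * b * g⁻¹⁻¹) • g⁻¹ • v = g⁻¹ • v
          rw [inv_inv, smul_smul, mul_inv_cancel_right, mul_smul, hv b hb]
        have h1 := h.bb_smul g⁻¹ y hy B hB
        have hback : ∀ (C : Subgroup Y), (C.map (MulAut.conj g⁻¹).toMonoidHom).map (MulAut.conj g).toMonoidHom
            = C := by
          intro C
          ext b
          constructor
          · rintro ⟨_, ⟨b', hb', rfl⟩, rfl⟩
            change g * (g⁻¹ * b' * g⁻¹⁻¹) * g⁻¹ ∈ C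
            have h2 : g * (g⁻¹ * b' * g⁻¹⁻¹) * g⁻¹ = b' := by group
            rwa [h2]
          · intro hb
            refine ⟨_, ⟨b, hb, rfl⟩, ?_⟩
            change g * (g⁻¹ * b * g⁻¹⁻¹) * g⁻¹ = b
            group
        have h2 := hM (g⁻¹ • u) (smul_ne hu) (fun C hC => by
          have h3 := key _ _ (hux _ (h.bb_smul g z hz C hC))
          have h4 : (C.map (MulAut.conj g).toMonoidHom).map (MulAut.conj g⁻¹).toMonoidHom = C := by
            ext b
            constructor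
            · rintro ⟨_, ⟨b', hb', rfl⟩, rfl⟩
              change g⁻¹ * (g * b' * g⁻¹) * g⁻¹⁻¹ ∈ C
              have h2 : g⁻¹ * (g * b' * g⁻¹) * g⁻¹⁻¹ = b' := by group
              rwa [h2]
            · intro hb
              refine ⟨_, ⟨b, hb, rfl⟩, ?_⟩
              change g⁻¹ * (g * b * g⁻¹) * g⁻¹⁻¹ = b
              group
          rwa [h4] at h3) (g⁻¹ • y) (smul_orbit hy g⁻¹) _ h1 (key _ _ hBu)
        have h3 := h.bb_smul g z hz _ h2
        rwa [hback] at h3 }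

/-- **THEOREM 1** of #16497 on `Dat`: under (M) the block `F_z = ⋂ C_V(B)`, `B ∈ BB z`, is `⟨z⟩` -/
theorem block_eq_line [Finite Y] [Finite V] (h : Dat T M z f Q BB) (hM : HypM z BB) {v : V}
    (hv : ∀ B ∈ BB z, Fx B v) : v = 0 ∨ v = z :=
  (Cfg.of_dat h hM).eq_of_mem_FF (MulAction.mem_orbit_self z) hv

/-- under (M) `f` is symmetric and (`five`) all of #13635 holds -/
theorem symm_of_M [Finite Y] [Finite V] (h : Dat T M z f Q BB) (hM : HypM z BB) {x y : V}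
    (hx : x ∈ MulAction.orbit Y z) (hy : y ∈ MulAction.orbit Y z) : f x y = f y x :=
  h.symm_of (fun _ hv => block_eq_line h hM hv) hx hy

end Cfsg.Agent.Omega.NO1.BTTwo.Blocks
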