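import Cfsg.Agent.Omega.NearFF.Dat

/-!
# N1, (BT): LEMMA A (helper318, OMEGA #16353)

`Y` acts on the `F₂`-space `V`; `f` is a functional with kernel `E`, `F` a subspace centralised by `c`, and `c`
fixes no vector of `V - E`; `ζ² = 1`, `[E, ζ] ≤ F`, `ρ` has odd order, `ρ^ζ = ρ⁻¹`, `[c, ρ] = 1`. Put
`M = [V, ρ]`.

* `ii` : if `f^ρ = f` then `c` centralises `M`;
* `i_cen`, `i_three`, `i_card`, `i_line` : if `f^ρ ≠ f` then `C_V(ρ) ≤ E`, `m + ρ m + ρ² m ∈ C_M(c) ≤ E` for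
  `m ∈ M`, `|M : C_M(c)| = 4`, `f + f^ρ + f^(ρ²) = 0`;
* `HE.ii`, `HE.finrank_le` : any subspace `E`: `M ≤ E` implies `[M, c] = 0`, and `|M : C_M(c)| ≤ |V : E|²`.
-/

set_option autoImplicit false

namespace Cfsg.Agent.Omega.NO1.BTTwo.LemA

open Cfsg.Agent.Omega.Transv Cfsg.Agent.Omega.NearFF

variable {Y : Type*} [Group Y] {V : Type*} [AddCommGroup V] [Module (ZMod 2) V] [DistribMulAction Y V]

/-- the linear map `v ↦ [v, g]` -/
def cml (g : Y) : V →ₗ[ZMod 2] V where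
  toFun v := g • v + v
  map_add' v w := by rw [smul_add]; abel
  map_smul' c v := by rw [smul_zmod, ← smul_add]; rfl

@[simp] theorem cml_apply (g : Y) (v : V) : cml g v = g • v + v := rfl

/-- `[V, g]` for `g` of odd order -/
def MM (V : Type*) [AddCommGroup V] [Module (ZMod 2) V] [DistribMulAction Y V] (g : Y) :
    Submodule (ZMod 2) V := LinearMap.range (cml g)

theorem mem_MM {g : Y} {m : V} : m ∈ MM V g ↔ ∃ v : V, g • v + v = m := Iff.rfl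

theorem cm_mem (g : Y) (v : V) : g • v + v ∈ MM V g := ⟨v, rfl⟩

/-- `k v = v` for odd `k` -/
theorem odd_smul {n : ℕ} (hn : Odd n) (v : V) : n • v = v := by
  obtain ⟨k, rfl⟩ := hn
  rw [add_smul, mul_smul, one_smul, two_smul, add_self, zero_add]

section rho

variable {ρ : Y}

theorem smul_mem_MM {m : V} (hm : m ∈ MM V ρ) : ρ • m ∈ MM V ρ := by
  obtain ⟨v, rfl⟩ := hm
  refine ⟨ρ • v, ?_⟩
  rw [cml_apply, cml_apply, smul_add]

theorem pow_smul_mem_MM {m : V} (hm : m ∈ MM V ρ) (i : ℕ) : ρ ^ i • m ∈ MM V ρ := by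
  induction i with
  | zero => rwa [pow_zero, one_smul]
  | succ i ih => rw [pow_succ', mul_smul]; exact smul_mem_MM ih

theorem pow_smul_add_mem (i : ℕ) (v : V) : ρ ^ i • v + v ∈ MM V ρ := by
  induction i with
  | zero => rw [pow_zero, one_smul, add_self]; exact zero_mem _
  | succ i ih =>
    have h1 : ρ ^ (i + 1) • v + v = (ρ • (ρ ^ i • v) + ρ ^ i • v) + (ρ ^ i • v + v) := by
      rw [pow_succ', mul_smul]
      rw [add_assoc, ← add_assoc (ρ ^ i • v) (ρ ^ i • v) v, add_self, zero_add]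
    rw [h1]
    exact add_mem (cm_mem _ _) ih

/-- the norm vanishes on `[V, ρ]` -/
theorem norm_eq_zero {n : ℕ} (hρ : ρ ^ n = 1) {m : V} (hm : m ∈ MM V ρ) :
    ∑ i ∈ Finset.range n, ρ ^ i • m = 0 := by
  obtain ⟨v, rfl⟩ := hm
  have h1 : ∀ k : ℕ, ∑ i ∈ Finset.range k, ρ ^ i • cml ρ v = ρ ^ k • v + v := by
    intro k
    induction k with
    | zero => rw [Finset.sum_range_zero, pow_zero, one_smul, add_self]
    | succ k ih =>
      rw [Finset.sum_range_succ, ih, cml_apply, smul_add, ← mul_smul, ← pow_succ]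
      rw [add_comm (ρ ^ k • v) v, add_assoc, add_comm (ρ ^ (k + 1) • v), ← add_assoc (ρ ^ k • v),
        add_self, zero_add, add_comm]
  rw [h1, hρ, one_smul, add_self]

/-- `C_V(ρ) ∩ [V, ρ] = 0` -/
theorem eq_zero_of_fix {n : ℕ} (hρ : ρ ^ n = 1) (hn : Odd n) {m : V} (hm : m ∈ MM V ρ)
    (hf : ρ • m = m) : m = 0 := by
  have h1 : ∀ i : ℕ, ρ ^ i • m = m := by
    intro i
    induction i with
    | zero => rw [pow_zero, one_smul]
    | succ i ih => rw [pow_succ', mul_smul, ih, hf]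
  have h2 := norm_eq_zero hρ hm
  simp only [h1, Finset.sum_const, Finset.card_range] at h2
  rwa [odd_smul hn] at h2

/-- `V = C_V(ρ) + [V, ρ]` -/
theorem exists_decomp {n : ℕ} (hρ : ρ ^ n = 1) (hn : Odd n) (v : V) :
    ∃ k m : V, ρ • k = k ∧ m ∈ MM V ρ ∧ v = k + m := by
  refine ⟨∑ i ∈ Finset.range n, ρ ^ i • v, ∑ i ∈ Finset.range n, (ρ ^ i • v + v), ?_, ?_, ?_⟩
  · rw [Finset.smul_sum]
    obtain ⟨k, rfl⟩ : ∃ k, n = k + 1 := ⟨n - 1, by have := hn.pos; omega⟩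
    rw [Finset.sum_range_succ, Finset.sum_range_succ']
    rw [← mul_smul, ← pow_succ', hρ, pow_zero]
    congr 1
    refine Finset.sum_congr rfl fun i _ => ?_
    rw [← mul_smul, ← pow_succ']
  · exact Submodule.sum_mem _ fun i _ => pow_smul_add_mem i v
  · rw [Finset.sum_add_distrib, ← add_assoc, add_self, zero_add, Finset.sum_const,
      Finset.card_range, odd_smul hn]

end rho

/-! ### The dihedral group `⟨ρ, ζ⟩` -/

section dih

variable {ρ ζ : Y}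

omit [Module (ZMod 2) V] in
theorem zeta_smul (hζ : ζ * ζ = 1) (hr : ζ * ρ * ζ = ρ⁻¹) (v : V) : ζ • ρ • v = ρ⁻¹ • ζ • v := by
  rw [← hr, mul_smul, mul_smul, ← mul_smul ζ ζ, hζ, one_smul]

omit [Module (ZMod 2) V] in
theorem zeta_smul_inv (hζ : ζ * ζ = 1) (hr : ζ * ρ * ζ = ρ⁻¹) (v : V) :
    ζ • ρ⁻¹ • v = ρ • ζ • v := by
  have h1 := zeta_smul hζ hr (ρ⁻¹ • v)
  rw [smul_inv_smul] at h1
  rw [h1, smul_inv_smul]

theorem zeta_mem_MM (hζ : ζ * ζ = 1) (hr : ζ * ρ * ζ = ρ⁻¹) {m : V} (hm : m ∈ MM V ρ) :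
    ζ • m ∈ MM V ρ := by
  obtain ⟨v, rfl⟩ := hm
  refine ⟨ρ⁻¹ • ζ • v, ?_⟩
  rw [cml_apply, cml_apply, smul_add, zeta_smul hζ hr, smul_inv_smul, add_comm]

/-- `[M, ρ] = M` -/
theorem le_of_rho {n : ℕ} (hρ : ρ ^ n = 1) (hn : Odd n) {X : Submodule (ZMod 2) V}
    (h : ∀ m ∈ MM V ρ, ρ • m + m ∈ X) : MM V ρ ≤ X := by
  intro m hm
  have h13 : ∀ i : ℕ, ρ ^ i • m + m ∈ X := by
    intro i
    induction i with
    | zero => rw [pow_zero, one_smul, add_self]; exact zero_mem _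
    | succ i ih =>
      have h14 := add_mem (h _ (pow_smul_mem_MM hm i)) ih
      have h15 : ρ • ρ ^ i • m + ρ ^ i • m + (ρ ^ i • m + m) = ρ ^ (i + 1) • m + m := by
        rw [pow_succ', mul_smul, add_assoc, ← add_assoc (ρ ^ i • m) (ρ ^ i • m) m, add_self,
          zero_add]
      rwa [h15] at h14
  have h16 : ∑ i ∈ Finset.range n, (ρ ^ i • m + m) ∈ X := Submodule.sum_mem _ fun i _ => h13 i
  rw [Finset.sum_add_distrib, norm_eq_zero hρ hm, zero_add, Finset.sum_const, Finset.card_range,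
    odd_smul hn] at h16
  exact h16

/-- `ρ` of odd order: if `ρ²` is trivial on `M/X` then `M ≤ X`. -/
theorem le_of_sq {n : ℕ} (hρ : ρ ^ n = 1) (hn : Odd n) {X : Submodule (ZMod 2) V}
    (h : ∀ m ∈ MM V ρ, ρ ^ 2 • m + m ∈ X) : MM V ρ ≤ X := by
  obtain ⟨k, hk⟩ := hn
  have h6 : ∀ j : ℕ, ∀ m ∈ MM V ρ, ρ ^ (2 * j) • m + m ∈ X := by
    intro j
    induction j with
    | zero => intro m _; rw [mul_zero, pow_zero, one_smul, add_self]; exact zero_mem _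
    | succ j ih =>
      intro m hm
      have h7 := add_mem (h _ (pow_smul_mem_MM hm (2 * j))) (ih m hm)
      have h8 : ρ ^ (2 * (j + 1)) = ρ ^ 2 * ρ ^ (2 * j) := by rw [← pow_add]; congr 1; ring
      have h9 : ρ ^ 2 • ρ ^ (2 * j) • m + ρ ^ (2 * j) • m + (ρ ^ (2 * j) • m + m) =
          ρ ^ (2 * (j + 1)) • m + m := by
        rw [h8, mul_smul, add_assoc, ← add_assoc (ρ ^ (2 * j) • m) (ρ ^ (2 * j) • m) m, add_self,
          zero_add]
      rwa [h9] at h7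
  refine le_of_rho hρ ⟨k, hk⟩ fun m hm => ?_
  have h11 := h6 (k + 1) m hm
  have h12 : ρ ^ (2 * (k + 1)) = ρ := by
    have : 2 * (k + 1) = n + 1 := by omega
    rw [this, pow_succ, hρ, one_mul]
  rwa [h12] at h11

/-- a `ρ`-invariant subspace containing `[M, ζ]` contains `M = [V, ρ]`. -/
theorem le_of_comm {n : ℕ} (hρ : ρ ^ n = 1) (hn : Odd n) (hζ : ζ * ζ = 1) (hr : ζ * ρ * ζ = ρ⁻¹)
    {X : Submodule (ZMod 2) V} (hX : ∀ x ∈ X, ρ • x ∈ X)
    (h : ∀ m ∈ MM V ρ, ζ • m + m ∈ X) : MM V ρ ≤ X := by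
  refine le_of_sq hρ hn fun m hm => ?_
  -- `ζ (ρ m) + ρ m` and `ζ m + m` lie in `X`
  have h3 := hX _ (h _ (smul_mem_MM hm))
  rw [zeta_smul hζ hr, smul_add, smul_inv_smul, ← mul_smul ρ ρ m, ← pow_two] at h3
  have h4 := add_mem h3 (h m hm)
  have h5 : ζ • m + ρ ^ 2 • m + (ζ • m + m) = ρ ^ 2 • m + m := by
    rw [add_comm (ζ • m) (ρ ^ 2 • m), add_assoc, ← add_assoc (ζ • m), add_self, zero_add]
  rwa [h5] at h4

/-- `[M, ζ]` -/
def CM (V : Type*) [AddCommGroup V] [Module (ZMod 2) V] [DistribMulAction Y V] (ρ ζ : Y) :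
    Submodule (ZMod 2) V := (MM V ρ).map (cml ζ)

theorem mem_CM {a : V} : a ∈ CM V ρ ζ ↔ ∃ m ∈ MM V ρ, ζ • m + m = a := Iff.rfl

theorem CM_le (hζ : ζ * ζ = 1) (hr : ζ * ρ * ζ = ρ⁻¹) : CM V ρ ζ ≤ MM V ρ := by
  rintro _ ⟨m, hm, rfl⟩
  exact add_mem (zeta_mem_MM hζ hr hm) hm

theorem zeta_fix (hζ : ζ * ζ = 1) {a : V} (ha : a ∈ CM V ρ ζ) : ζ • a = a := by
  obtain ⟨m, -, rfl⟩ := ha
  rw [cml_apply, smul_add, ← mul_smul, hζ, one_smul, add_comm]

/-- `M = [M, ζ] + ρ [M, ζ]` -/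
theorem exists_add {n : ℕ} (hρ : ρ ^ n = 1) (hn : Odd n) (hζ : ζ * ζ = 1) (hr : ζ * ρ * ζ = ρ⁻¹)
    {m : V} (hm : m ∈ MM V ρ) : ∃ a ∈ CM V ρ ζ, ∃ b ∈ CM V ρ ζ, m = a + ρ • b := by
  let N : Submodule (ZMod 2) V :=
    { carrier := {m | ∃ a ∈ CM V ρ ζ, ∃ b ∈ CM V ρ ζ, m = a + ρ • b}
      add_mem' := by
        rintro _ _ ⟨a, ha, b, hb, rfl⟩ ⟨a', ha', b', hb', rfl⟩
        exact ⟨a + a', add_mem ha ha', b + b', add_mem hb hb', by rw [smul_add]; abel⟩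
      zero_mem' := ⟨0, zero_mem _, 0, zero_mem _, by rw [smul_zero, add_zero]⟩
      smul_mem' := by
        rintro c _ ⟨a, ha, b, hb, rfl⟩
        exact ⟨c • a, Submodule.smul_mem _ _ ha, c • b, Submodule.smul_mem _ _ hb, by
          rw [smul_zmod, smul_add]⟩ }
  have h1 : ∀ a ∈ CM V ρ ζ, a ∈ N := fun a ha =>
    ⟨a, ha, 0, zero_mem _, by rw [smul_zero, add_zero]⟩
  have h2 : MM V ρ ≤ N := by
    refine le_of_comm hρ hn hζ hr ?_ fun m hm => h1 _ ⟨m, hm, rfl⟩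
    rintro _ ⟨a, ha, b, hb, rfl⟩
    -- `ρ² b = b + ρ (ρ⁻¹ b + ρ b)`
    have h3 : ρ⁻¹ • b + ρ • b ∈ CM V ρ ζ := by
      refine ⟨ρ • b, smul_mem_MM (CM_le hζ hr hb), ?_⟩
      rw [cml_apply, zeta_smul hζ hr, zeta_fix hζ hb]
    refine ⟨b, hb, a + (ρ⁻¹ • b + ρ • b), add_mem ha h3, ?_⟩
    rw [smul_add, smul_add, smul_add, smul_inv_smul]
    rw [add_comm b, add_assoc, add_assoc, add_comm _ b, ← add_assoc b b, add_self, zero_add]
  exact h2 hm

end dih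

/-! ### LEMMA A -/

/-- The setting of LEMMA A: `E = ker f`. -/
structure HA (f : Du V) (F : Submodule (ZMod 2) V) (ρ ζ c : Y) (n : ℕ) : Prop where
  pow : ρ ^ n = 1
  odd : Odd n
  sq : ζ * ζ = 1
  inv : ζ * ρ * ζ = ρ⁻¹
  comm : c * ρ = ρ * c
  /-- `[E, ζ] ≤ F` -/
  com : ∀ e : V, f e = 0 → ζ • e + e ∈ F
  /-- `c` centralises `F` -/
  fix : ∀ v ∈ F, c • v = v
  /-- `c` fixes no vector outside `E` -/
  free : ∀ v : V, f v = 1 → c • v ≠ v

namespace HA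

variable {f : Du V} {F : Submodule (ZMod 2) V} {ρ ζ c : Y} {n : ℕ} (h : HA f F ρ ζ c n)
include h

theorem c_smul (v : V) : c • ρ • v = ρ • c • v := by
  rw [← mul_smul, h.comm, mul_smul]

theorem c_mem {m : V} (hm : m ∈ MM V ρ) : c • m ∈ MM V ρ := by
  obtain ⟨v, rfl⟩ := hm
  refine ⟨c • v, ?_⟩
  rw [cml_apply, cml_apply, smul_add, h.c_smul]

end HA

/-- `C_M(c)` -/
def XX (V : Type*) [AddCommGroup V] [Module (ZMod 2) V] [DistribMulAction Y V] (ρ c : Y) :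
    Submodule (ZMod 2) V := MM V ρ ⊓ LinearMap.ker (cml c)

theorem mem_XX {ρ c : Y} {m : V} : m ∈ XX V ρ c ↔ m ∈ MM V ρ ∧ c • m = m := by
  rw [XX, Submodule.mem_inf, LinearMap.mem_ker, cml_apply]
  refine and_congr_right fun _ => ⟨eq_of_add, fun h => ?_⟩
  rw [h, add_self]

namespace HA

variable {f : Du V} {F : Submodule (ZMod 2) V} {ρ ζ c : Y} {n : ℕ} (h : HA f F ρ ζ c n)
include h

theorem rho_XX {x : V} (hx : x ∈ XX V ρ c) : ρ • x ∈ XX V ρ c := by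
  rw [mem_XX] at hx ⊢
  exact ⟨smul_mem_MM hx.1, by rw [h.c_smul, hx.2]⟩

/-- **LEMMA A (ii)**: if `f^ρ = f`, `c` centralises `[V, ρ]`. -/
theorem ii (hf : ∀ v : V, f (ρ • v) = f v) : ∀ m ∈ MM V ρ, c • m = m := by
  have h1 : MM V ρ ≤ XX V ρ c := by
    refine le_of_comm h.pow h.odd h.sq h.inv (fun x hx => h.rho_XX hx) fun m hm => ?_
    refine mem_XX.mpr ⟨add_mem (zeta_mem_MM h.sq h.inv hm) hm, h.fix _ (h.com _ ?_)⟩
    obtain ⟨v, rfl⟩ := hm
    rw [cml_apply, map_add, hf, CharTwo.add_self_eq_zero]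
  exact fun m hm => (mem_XX.mp (h1 hm)).2

omit h in
/-- a vector of `M` outside `E` -/
theorem exists_mem {v : V} (hv : f (ρ • v) ≠ f v) : ∃ m ∈ MM V ρ, f m = 1 := by
  refine ⟨_, cm_mem ρ v, eq_one_of_ne ?_⟩
  rw [map_add]
  intro h1
  apply hv
  rcases zmod_cases (f (ρ • v)) with h2 | h2 <;> rcases zmod_cases (f v) with h3 | h3 <;>
    rw [h2, h3] at h1 ⊢ <;> simp at h1

/-- `[m, ζ] ∈ C_M(c)` for `m ∈ M ∩ E` -/
theorem com_mem {m : V} (hm : m ∈ MM V ρ) (hf : f m = 0) : ζ • m + m ∈ XX V ρ c :=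
  mem_XX.mpr ⟨add_mem (zeta_mem_MM h.sq h.inv hm) hm, h.fix _ (h.com _ hf)⟩

/-- `[M, ζ] ≤ X ∪ (w + X)` -/
theorem com_or {v₀ a : V} (hv₀ : v₀ ∈ MM V ρ) (hf₀ : f v₀ = 1) (ha : a ∈ CM V ρ ζ) :
    a ∈ XX V ρ c ∨ a + (ζ • v₀ + v₀) ∈ XX V ρ c := by
  obtain ⟨m, hm, rfl⟩ := ha
  rcases zmod_cases (f m) with h1 | h1
  · exact Or.inl (h.com_mem hm h1)
  · right
    have h2 := h.com_mem (add_mem hm hv₀) (by rw [map_add, h1, hf₀]; decide)
    have h3 : ζ • (m + v₀) + (m + v₀) = cml ζ m + (ζ • v₀ + v₀) := by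
      rw [smul_add, cml_apply]; abel
    rwa [h3] at h2

/-- `w = [v₀, ζ]` is not centralised by `c` -/
theorem w_notMem {v₀ : V} (hv₀ : v₀ ∈ MM V ρ) (hf₀ : f v₀ = 1) :
    ζ • v₀ + v₀ ∉ XX V ρ c := by
  intro hw
  have h1 : MM V ρ ≤ XX V ρ c := by
    refine le_of_comm h.pow h.odd h.sq h.inv (fun x hx => h.rho_XX hx) fun m hm => ?_
    rcases h.com_or hv₀ hf₀ (mem_CM.mpr ⟨m, hm, rfl⟩) with h2 | h2
    · exact h2
    · have h3 := add_mem h2 hw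
      rwa [add_add_self] at h3
  exact h.free v₀ hf₀ (mem_XX.mp (h1 hv₀)).2

/-- `w + ρ w + ρ² w ∈ X`, in the form `ρ⁻¹ w + w + ρ w ∈ X` -/
theorem w_three {v₀ : V} (hv₀ : v₀ ∈ MM V ρ) (hf₀ : f v₀ = 1) {w : V} (hw : w = ζ • v₀ + v₀) :
    w + ρ • w + ρ • ρ • w ∈ XX V ρ c := by
  have hwX : w ∉ XX V ρ c := hw ▸ h.w_notMem hv₀ hf₀
  have hwC : w ∈ CM V ρ ζ := mem_CM.mpr ⟨v₀, hv₀, hw.symm⟩
  have hwM : w ∈ MM V ρ := CM_le h.sq h.inv hwC
  have h1 : ρ⁻¹ • w + ρ • w ∈ CM V ρ ζ := by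
    refine ⟨ρ • w, smul_mem_MM hwM, ?_⟩
    rw [cml_apply, zeta_smul h.sq h.inv, zeta_fix h.sq hwC]
  rcases h.com_or hv₀ hf₀ h1 with h2 | h2
  · exfalso
    have h3 := h.rho_XX h2
    rw [smul_add, smul_inv_smul] at h3
    -- `X + ⟨w⟩ ≥ M`
    have h4 : MM V ρ ≤ XX V ρ c := by
      refine le_of_sq h.pow h.odd fun m hm => ?_
      obtain ⟨a, ha, b, hb, rfl⟩ := exists_add h.pow h.odd h.sq h.inv hm
      -- `ρ²` is trivial on `a`, `b` modulo `X`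
      have h5 : ∀ a ∈ CM V ρ ζ, ρ • ρ • a + a ∈ XX V ρ c := by
        intro a ha
        rcases h.com_or hv₀ hf₀ ha with h6 | h6
        · exact add_mem (h.rho_XX (h.rho_XX h6)) h6
        · rw [← hw] at h6
          have h7 := add_mem (add_mem (h.rho_XX (h.rho_XX h6)) h6) h3
          have h8 : ρ • ρ • (a + w) + (a + w) + (w + ρ • ρ • w) = ρ • ρ • a + a := by
            rw [smul_add, smul_add]
            have e1 : ρ • ρ • a + ρ • ρ • w + (a + w) + (w + ρ • ρ • w) =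
                (ρ • ρ • a + a) + ((ρ • ρ • w + ρ • ρ • w) + (w + w)) := by abel
            rw [e1, add_self, add_self, add_zero, add_zero]
          rwa [h8] at h7
      have h9 := add_mem (h5 a ha) (h.rho_XX (h5 b hb))
      have h10 : ρ • ρ • a + a + ρ • (ρ • ρ • b + b) = ρ ^ 2 • (a + ρ • b) + (a + ρ • b) := by
        rw [pow_two, mul_smul, smul_add, smul_add, smul_add]; abel
      rwa [h10] at h9
    exact hwX (h4 hwM)
  · rw [← hw] at h2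
    have h3 := h.rho_XX h2
    rw [smul_add, smul_add, smul_inv_smul] at h3
    have h4 : w + ρ • ρ • w + ρ • w = w + ρ • w + ρ • ρ • w := by abel
    rwa [h4] at h3

/-- **LEMMA A (i)**: `m + ρ m + ρ² m` is centralised by `c`, for `m ∈ [V, ρ]`. -/
theorem i_three {v : V} (hv : f (ρ • v) ≠ f v) {m : V} (hm : m ∈ MM V ρ) :
    m + ρ • m + ρ • ρ • m ∈ XX V ρ c := by
  obtain ⟨v₀, hv₀, hf₀⟩ := exists_mem (f := f) hv
  obtain ⟨w, hw⟩ : ∃ w, w = ζ • v₀ + v₀ := ⟨_, rfl⟩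
  have hw3 := h.w_three hv₀ hf₀ hw
  have h5 : ∀ a ∈ CM V ρ ζ, a + ρ • a + ρ • ρ • a ∈ XX V ρ c := by
    intro a ha
    rcases h.com_or hv₀ hf₀ ha with h6 | h6
    · exact add_mem (add_mem h6 (h.rho_XX h6)) (h.rho_XX (h.rho_XX h6))
    · rw [← hw] at h6
      have h7 := add_mem (add_mem (add_mem h6 (h.rho_XX h6)) (h.rho_XX (h.rho_XX h6))) hw3
      have h8 : a + w + ρ • (a + w) + ρ • ρ • (a + w) + (w + ρ • w + ρ • ρ • w) =
          a + ρ • a + ρ • ρ • a := by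
        simp only [smul_add]
        have e1 : a + w + (ρ • a + ρ • w) + (ρ • ρ • a + ρ • ρ • w) + (w + ρ • w + ρ • ρ • w) =
            (a + ρ • a + ρ • ρ • a) + ((w + w) + ((ρ • w + ρ • w) + (ρ • ρ • w + ρ • ρ • w))) := by
          abel
        rw [e1, add_self, add_self, add_self, add_zero, add_zero, add_zero]
      rwa [h8] at h7
  obtain ⟨a, ha, b, hb, rfl⟩ := exists_add h.pow h.odd h.sq h.inv hm
  have h9 := add_mem (h5 a ha) (h.rho_XX (h5 b hb))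
  have h10 : a + ρ • a + ρ • ρ • a + ρ • (b + ρ • b + ρ • ρ • b) =
      a + ρ • b + ρ • (a + ρ • b) + ρ • ρ • (a + ρ • b) := by
    simp only [smul_add]; abel
  rwa [h10] at h9

/-- `C_M(c) ≤ E` -/
theorem XX_le {x : V} (hx : x ∈ XX V ρ c) : f x = 0 :=
  eq_zero_of_ne fun h1 => h.free x h1 (mem_XX.mp hx).2

/-- **LEMMA A (i)**: `C_V(ρ) ≤ E`. -/
theorem i_cen {v : V} (hv : f (ρ • v) ≠ f v) {k : V} (hk : ρ • k = k) : f k = 0 := by
  obtain ⟨v₀, hv₀, hf₀⟩ := exists_mem (f := f) hv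
  refine eq_zero_of_ne fun h1 => h.w_notMem hv₀ hf₀ ?_
  have hwM : ζ • v₀ + v₀ ∈ MM V ρ := add_mem (zeta_mem_MM h.sq h.inv hv₀) hv₀
  have h2 := h.fix _ (h.com (v₀ + k) (by rw [map_add, hf₀, h1]; decide))
  -- `[w, c] = [[k, ζ], c]` is in `M ∩ C_V(ρ)`
  have h3 : c • (ζ • v₀ + v₀) + (ζ • v₀ + v₀) = c • (ζ • k + k) + (ζ • k + k) := by
    have e1 : ζ • (v₀ + k) + (v₀ + k) = (ζ • v₀ + v₀) + (ζ • k + k) := by rw [smul_add]; abel
    rw [e1, smul_add] at h2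
    have e2 := congrArg (fun t => t + c • (ζ • k + k) + (ζ • v₀ + v₀)) h2
    have e3 : c • (ζ • v₀ + v₀) + c • (ζ • k + k) + c • (ζ • k + k) + (ζ • v₀ + v₀) =
        c • (ζ • v₀ + v₀) + (ζ • v₀ + v₀) := by
      rw [add_add_self]
    have e4 : ζ • v₀ + v₀ + (ζ • k + k) + c • (ζ • k + k) + (ζ • v₀ + v₀) =
        c • (ζ • k + k) + (ζ • k + k) := by
      have e5 : ζ • v₀ + v₀ + (ζ • k + k) + c • (ζ • k + k) + (ζ • v₀ + v₀) =
          c • (ζ • k + k) + (ζ • k + k) + ((ζ • v₀ + v₀) + (ζ • v₀ + v₀)) := by abel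
      rw [e5, add_self, add_zero]
    exact e3.symm.trans (e2.trans e4)
  have h4 : ρ • (ζ • k + k) = ζ • k + k := by
    have e1 : ρ⁻¹ • k = k := by
      conv_lhs => rw [← hk]
      rw [inv_smul_smul]
    have e2 := zeta_smul_inv h.sq h.inv k
    rw [e1] at e2
    rw [smul_add, hk, ← e2]
  have h5 : c • (ζ • v₀ + v₀) + (ζ • v₀ + v₀) = 0 := by
    refine eq_zero_of_fix h.pow h.odd (add_mem (h.c_mem hwM) hwM) ?_
    rw [h3, smul_add, ← h.c_smul, h4]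
  exact mem_XX.mpr ⟨hwM, eq_of_add h5⟩

/-- **LEMMA A (i)**: `f + f^ρ + f^(ρ²) = 0`. -/
theorem i_line {v : V} (hv : f (ρ • v) ≠ f v) (u : V) :
    f u + f (ρ • u) + f (ρ • ρ • u) = 0 := by
  obtain ⟨k, m, hk, hm, rfl⟩ := exists_decomp h.pow h.odd u
  have h1 := h.XX_le (h.i_three hv hm)
  rw [map_add, map_add] at h1
  rw [smul_add, smul_add, hk, hk, map_add, map_add, map_add, h.i_cen hv hk, zero_add, zero_add,
    zero_add, h1]

/-- the dual form -/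
theorem i_line_dua {v : V} (hv : f (ρ • v) ≠ f v) : f + dua ρ f + dua ρ (dua ρ f) = 0 := by
  ext u
  have h1 := h.i_line hv (ρ⁻¹ • ρ⁻¹ • u)
  rw [smul_inv_smul, smul_inv_smul] at h1
  simp only [LinearMap.add_apply, dua_apply, LinearMap.zero_apply]
  rw [← h1]
  ring

/-- `ρ w ∉ X` etc. -/
theorem notMem_rho {w : V} (hw : w ∉ XX V ρ c) : ρ • w ∉ XX V ρ c := by
  intro h1
  apply hw
  have h2 : ∀ i : ℕ, ρ ^ (i + 1) • w ∈ XX V ρ c := by
    intro i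
    induction i with
    | zero => rwa [zero_add, pow_one]
    | succ i ih => rw [pow_succ', mul_smul]; exact h.rho_XX ih
  obtain ⟨k, hk⟩ : ∃ k, n = k + 1 := ⟨n - 1, by have := h.odd.pos; omega⟩
  have h3 := h2 k
  rwa [← hk, h.pow, one_smul] at h3

/-- **LEMMA A (i)**: `M = X ∪ (w + X) ∪ (ρ w + X) ∪ (ρ² w + X)`, `X = C_M(c)`. -/
theorem i_cosets {v : V} (hv : f (ρ • v) ≠ f v) : ∃ w ∈ MM V ρ, w ∉ XX V ρ c ∧
    ρ • w ∉ XX V ρ c ∧ w + ρ • w ∉ XX V ρ c ∧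
    ∀ m ∈ MM V ρ, ∃ a b : ZMod 2, ∃ x ∈ XX V ρ c, m = x + (a • w + b • ρ • w) := by
  obtain ⟨v₀, hv₀, hf₀⟩ := exists_mem (f := f) hv
  obtain ⟨w, hw⟩ : ∃ w, w = ζ • v₀ + v₀ := ⟨_, rfl⟩
  have hwX : w ∉ XX V ρ c := hw ▸ h.w_notMem hv₀ hf₀
  have hw3 := h.w_three hv₀ hf₀ hw
  have hwM : w ∈ MM V ρ := hw ▸ add_mem (zeta_mem_MM h.sq h.inv hv₀) hv₀
  refine ⟨w, hwM, hwX, h.notMem_rho hwX, fun h1 => ?_, fun m hm => ?_⟩
  · have h2 := add_mem h1 hw3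
    have h3 : w + ρ • w + (w + ρ • w + ρ • ρ • w) = ρ • ρ • w := by
      rw [← add_assoc, add_self, zero_add]
    rw [h3] at h2
    exact h.notMem_rho (h.notMem_rho hwX) h2
  · obtain ⟨a, ha, b, hb, rfl⟩ := exists_add h.pow h.odd h.sq h.inv hm
    have key : ∀ a ∈ CM V ρ ζ, ∃ e : ZMod 2, a + e • w ∈ XX V ρ c := by
      intro a ha
      rcases h.com_or hv₀ hf₀ ha with h1 | h1
      · exact ⟨0, by rwa [zero_smul, add_zero]⟩
      · rw [← hw] at h1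
        exact ⟨1, by rwa [one_smul]⟩
    obtain ⟨e, he⟩ := key a ha
    obtain ⟨d, hd⟩ := key b hb
    refine ⟨e, d, _, add_mem he (h.rho_XX hd), ?_⟩
    rw [smul_add, smul_zmod]
    have e1 : a + e • w + (ρ • b + d • ρ • w) + (e • w + d • ρ • w) =
        a + ρ • b + ((e • w + e • w) + (d • ρ • w + d • ρ • w)) := by abel
    rw [e1, add_self, add_self, add_zero, add_zero]

/-- **LEMMA A (i)**: `|M : C_M(c)| = 4`. -/
theorem i_card {v : V} (hv : f (ρ • v) ≠ f v) :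
    Nat.card (MM V ρ) = 4 * Nat.card (XX V ρ c) := by
  obtain ⟨w, hwM, hw1, hw2, hw3, hw⟩ := h.i_cosets hv
  have hle : XX V ρ c ≤ MM V ρ := fun x hx => (mem_XX.mp hx).1
  have hmem : ∀ a b : ZMod 2, a • w + b • ρ • w ∈ MM V ρ := fun a b =>
    add_mem (Submodule.smul_mem _ _ hwM) (Submodule.smul_mem _ _ (smul_mem_MM hwM))
  have hzero : ∀ a b : ZMod 2, a • w + b • ρ • w ∈ XX V ρ c → a = 0 ∧ b = 0 := by
    intro a b hab
    rcases zmod_cases a with ha | ha <;> rcases zmod_cases b with hb | hb <;> subst ha <;>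
      subst hb
    · exact ⟨rfl, rfl⟩
    · rw [zero_smul, zero_add, one_smul] at hab
      exact absurd hab hw2
    · rw [zero_smul, add_zero, one_smul] at hab
      exact absurd hab hw1
    · rw [one_smul, one_smul] at hab
      exact absurd hab hw3
  let φ : (ZMod 2 × ZMod 2) × XX V ρ c → MM V ρ := fun p =>
    ⟨(p.2 : V) + (p.1.1 • w + p.1.2 • ρ • w), add_mem (hle p.2.2) (hmem _ _)⟩
  have hφ : Function.Bijective φ := by
    constructor
    · rintro ⟨⟨a, b⟩, x⟩ ⟨⟨a', b'⟩, x'⟩ hp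
      have h1 : (x : V) + (a • w + b • ρ • w) = (x' : V) + (a' • w + b' • ρ • w) :=
        congrArg Subtype.val hp
      have h2 : (a + a') • w + (b + b') • ρ • w = (x : V) + x' := by
        have e1 := congrArg (fun t => t + (x : V) + (a' • w + b' • ρ • w)) h1
        have e2 : (x : V) + (a • w + b • ρ • w) + x + (a' • w + b' • ρ • w) =
            ((a + a') • w + (b + b') • ρ • w) + ((x : V) + x) := by
          rw [add_smul, add_smul]; abel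
        have e3 : (x' : V) + (a' • w + b' • ρ • w) + x + (a' • w + b' • ρ • w) =
            ((x : V) + x') + ((a' • w + b' • ρ • w) + (a' • w + b' • ρ • w)) := by abel
        rw [e2, e3, add_self, add_self, add_zero, add_zero] at e1
        exact e1
      obtain ⟨h3, h4⟩ := hzero _ _ (h2 ▸ add_mem x.2 x'.2)
      have h5 : a = a' := by
        rcases zmod_cases a with ha | ha <;> rcases zmod_cases a' with ha' | ha' <;>
          rw [ha, ha'] at h3 ⊢ <;> simp at h3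
      have h6 : b = b' := by
        rcases zmod_cases b with hb | hb <;> rcases zmod_cases b' with hb' | hb' <;>
          rw [hb, hb'] at h4 ⊢ <;> simp at h4
      subst h5
      subst h6
      have h7 : x = x' := Subtype.ext (add_right_cancel h1)
      rw [h7]
    · rintro ⟨m, hm⟩
      obtain ⟨a, b, x, hx, rfl⟩ := hw m hm
      exact ⟨((a, b), ⟨x, hx⟩), rfl⟩
  rw [← Nat.card_congr (Equiv.ofBijective φ hφ), Nat.card_prod, Nat.card_prod]
  simp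

end HA

/-! ### The version for `|V/E| > 2` -/

/-- The setting for an arbitrary subspace `E`. -/
structure HE (E F : Submodule (ZMod 2) V) (ρ ζ c : Y) (n : ℕ) : Prop where
  pow : ρ ^ n = 1
  odd : Odd n
  sq : ζ * ζ = 1
  inv : ζ * ρ * ζ = ρ⁻¹
  comm : c * ρ = ρ * c
  /-- `[E, ζ] ≤ F` -/
  com : ∀ e ∈ E, ζ • e + e ∈ F
  /-- `c` centralises `F` -/
  fix : ∀ v ∈ F, c • v = v

theorem HA.toHE {f : Du V} {F : Submodule (ZMod 2) V} {ρ ζ c : Y} {n : ℕ} (h : HA f F ρ ζ c n) :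
    HE (LinearMap.ker f) F ρ ζ c n :=
  ⟨h.pow, h.odd, h.sq, h.inv, h.comm, fun e he => h.com e (LinearMap.mem_ker.mp he), h.fix⟩

namespace HE

open Module

variable {E F : Submodule (ZMod 2) V} {ρ ζ c : Y} {n : ℕ} (h : HE E F ρ ζ c n)
include h

theorem c_smul (v : V) : c • ρ • v = ρ • c • v := by
  rw [← mul_smul, h.comm, mul_smul]

theorem rho_XX {x : V} (hx : x ∈ XX V ρ c) : ρ • x ∈ XX V ρ c := by
  rw [mem_XX] at hx ⊢
  exact ⟨smul_mem_MM hx.1, by rw [h.c_smul, hx.2]⟩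

/-- (ii) if `[V, ρ] ≤ E`, `c` centralises `[V, ρ]`. -/
theorem ii (hM : MM V ρ ≤ E) : ∀ m ∈ MM V ρ, c • m = m := by
  have h1 : MM V ρ ≤ XX V ρ c :=
    le_of_comm h.pow h.odd h.sq h.inv (fun x hx => h.rho_XX hx) fun m hm =>
      mem_XX.mpr ⟨add_mem (zeta_mem_MM h.sq h.inv hm) hm, h.fix _ (h.com _ (hM hm))⟩
  exact fun m hm => (mem_XX.mp (h1 hm)).2

/-- `|M : C_M(c)| ≤ |V : E|²`. -/
theorem finrank_le [Module.Finite (ZMod 2) V] :
    finrank (ZMod 2) (MM V ρ) + 2 * finrank (ZMod 2) E ≤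
      finrank (ZMod 2) (XX V ρ c) + 2 * finrank (ZMod 2) V := by
  -- `|[M, ζ] : [M, ζ] ∩ X| ≤ |M : M ∩ E| ≤ |V : E|`
  have h1 : finrank (ZMod 2) (CM V ρ ζ) + finrank (ZMod 2) E ≤
      finrank (ZMod 2) (CM V ρ ζ ⊓ XX V ρ c : Submodule (ZMod 2) V) + finrank (ZMod 2) V := by
    have e1 := Submodule.finrank_sup_add_finrank_inf_eq (MM V ρ) E
    have e2 : finrank (ZMod 2) (MM V ρ ⊔ E : Submodule (ZMod 2) V) ≤ finrank (ZMod 2) V :=
      Submodule.finrank_le _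
    -- the map `m ↦ [m, ζ]`
    have e3 := LinearMap.finrank_range_add_finrank_ker ((cml ζ).domRestrict (MM V ρ))
    have e4 : LinearMap.range ((cml ζ).domRestrict (MM V ρ)) = CM V ρ ζ :=
      LinearMap.range_domRestrict _ _
    have e5 := LinearMap.finrank_range_add_finrank_ker
      ((cml ζ).domRestrict (MM V ρ ⊓ E : Submodule (ZMod 2) V))
    have e6 : finrank (ZMod 2) (LinearMap.range
        ((cml ζ).domRestrict (MM V ρ ⊓ E : Submodule (ZMod 2) V))) ≤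
        finrank (ZMod 2) (CM V ρ ζ ⊓ XX V ρ c : Submodule (ZMod 2) V) := by
      refine Submodule.finrank_mono ?_
      rintro _ ⟨⟨m, hm⟩, rfl⟩
      rw [Submodule.mem_inf] at hm
      exact Submodule.mem_inf.mpr ⟨⟨m, hm.1, rfl⟩,
        mem_XX.mpr ⟨add_mem (zeta_mem_MM h.sq h.inv hm.1) hm.1, h.fix _ (h.com _ hm.2)⟩⟩
    have e7 : finrank (ZMod 2) (LinearMap.ker
        ((cml ζ).domRestrict (MM V ρ ⊓ E : Submodule (ZMod 2) V))) ≤
        finrank (ZMod 2) (LinearMap.ker ((cml ζ).domRestrict (MM V ρ))) := by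
      let j : LinearMap.ker ((cml ζ).domRestrict (MM V ρ ⊓ E : Submodule (ZMod 2) V)) →ₗ[ZMod 2]
          LinearMap.ker ((cml ζ).domRestrict (MM V ρ)) :=
        { toFun := fun x => ⟨⟨(x : (MM V ρ ⊓ E : Submodule (ZMod 2) V)),
            (Submodule.mem_inf.mp (x : (MM V ρ ⊓ E : Submodule (ZMod 2) V)).2).1⟩, x.2⟩
          map_add' := fun _ _ => rfl
          map_smul' := fun _ _ => rfl }
      refine LinearMap.finrank_le_finrank_of_injective (f := j) fun x y hxy => ?_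
      have e8 : ((x : (MM V ρ ⊓ E : Submodule (ZMod 2) V)) : V) =
          (y : (MM V ρ ⊓ E : Submodule (ZMod 2) V)) :=
        congrArg (fun t : LinearMap.ker ((cml ζ).domRestrict (MM V ρ)) => ((t : MM V ρ) : V)) hxy
      exact Subtype.ext (Subtype.ext e8)
    rw [e4] at e3
    omega
  -- `M = [M, ζ] + ρ [M, ζ]`
  let r₀ : V ≃ₗ[ZMod 2] V :=
    { toFun := fun v => ρ • v
      map_add' := smul_add ρ
      map_smul' := fun a v => smul_zmod ρ a v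
      invFun := fun v => ρ⁻¹ • v
      left_inv := inv_smul_smul ρ
      right_inv := smul_inv_smul ρ }
  let r : V →ₗ[ZMod 2] V := r₀
  have h2 : MM V ρ ≤ (CM V ρ ζ ⊔ XX V ρ c) ⊔ ((CM V ρ ζ).map r ⊔ XX V ρ c) := by
    intro m hm
    obtain ⟨a, ha, b, hb, rfl⟩ := exists_add h.pow h.odd h.sq h.inv hm
    exact add_mem (Submodule.mem_sup_left (Submodule.mem_sup_left ha))
      (Submodule.mem_sup_right (Submodule.mem_sup_left ⟨b, hb, rfl⟩))
  have h3 := Submodule.finrank_mono (R := ZMod 2) h2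
  have h4 := Submodule.finrank_sup_add_finrank_inf_eq (CM V ρ ζ ⊔ XX V ρ c)
    ((CM V ρ ζ).map r ⊔ XX V ρ c)
  have h5 : finrank (ZMod 2) (XX V ρ c) ≤ finrank (ZMod 2) ((CM V ρ ζ ⊔ XX V ρ c) ⊓
      ((CM V ρ ζ).map r ⊔ XX V ρ c) : Submodule (ZMod 2) V) :=
    Submodule.finrank_mono (le_inf le_sup_right le_sup_right)
  have h6 := Submodule.finrank_sup_add_finrank_inf_eq (CM V ρ ζ) (XX V ρ c)
  have h7 := Submodule.finrank_sup_add_finrank_inf_eq ((CM V ρ ζ).map r) (XX V ρ c)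
  have h8 : finrank (ZMod 2) ((CM V ρ ζ).map r) = finrank (ZMod 2) (CM V ρ ζ) :=
    LinearEquiv.finrank_map_eq r₀ _
  have h9 : finrank (ZMod 2) (CM V ρ ζ ⊓ XX V ρ c : Submodule (ZMod 2) V) ≤
      finrank (ZMod 2) ((CM V ρ ζ).map r ⊓ XX V ρ c : Submodule (ZMod 2) V) := by
    have h10 : finrank (ZMod 2) ((CM V ρ ζ ⊓ XX V ρ c : Submodule (ZMod 2) V).map r) =
        finrank (ZMod 2) (CM V ρ ζ ⊓ XX V ρ c : Submodule (ZMod 2) V) :=
      LinearEquiv.finrank_map_eq r₀ _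
    rw [← h10]
    refine Submodule.finrank_mono ?_
    rintro _ ⟨x, hx, rfl⟩
    exact Submodule.mem_inf.mpr ⟨⟨x, (Submodule.mem_inf.mp hx).1, rfl⟩,
      h.rho_XX (Submodule.mem_inf.mp hx).2⟩
  omega

end HE

end Cfsg.Agent.Omega.NO1.BTTwo.LemA
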